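import Cfsg.Agent.FGSA.MixedPrimes.Local

/-!
Mixed subgroups for the prime two and `p` one less than the order of a Sylow 2-subgroup: basic facts.
-/

set_option autoImplicit false
set_option linter.unusedSectionVars false
set_option linter.style.haveILetI false
set_option linter.deprecated false

namespace CfsgLib.MixedPrimes

open Subgroup Pointwise

variable {G : Type*} [Group G] {p : ℕ}

/-- The hypotheses in the extremal case. -/
structure Hyp (G : Type*) [Group G] (p : ℕ) : Prop where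
  ne_two : p ≠ 2
  mix : Mixed G p 2
  dvd : p ∣ Nat.card G
  two : ∀ T : Sylow 2 G, Nat.card (T : Subgroup G) = p + 1
  ab : ∀ S : Subgroup G, IsPGroup p S → ∀ a ∈ S, ∀ b ∈ S, Commute a b

/-- A Sylow 2-subgroup moved by a `p`-element normalizing it. -/
structure Pair (p : ℕ) (Q : Sylow 2 G) (x : G) : Prop where
  pel : Pel p x
  norm : x ∈ normalizer ((Q : Subgroup G) : Set G)
  move : x ∉ centralizer ((Q : Subgroup G) : Set G)

/-- `t` is an involution. -/
def Inv' (t : G) : Prop := t * t = 1 ∧ t ≠ 1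

theorem Inv'.conj {t : G} (h : Inv' t) (g : G) : Inv' (g * t * g⁻¹) :=
  ⟨by rw [show g * t * g⁻¹ * (g * t * g⁻¹) = g * (t * t) * g⁻¹ by group, h.1]; group,
    fun e => h.2 (conj_eq_one_iff.mp e)⟩

theorem Inv'.inv_eq {t : G} (h : Inv' t) : t⁻¹ = t := inv_eq_of_mul_eq_one_right h.1

theorem commute_conj_iff (g a b : G) :
    Commute (g * a * g⁻¹) (g * b * g⁻¹) ↔ Commute a b := by
  constructor
  · intro h
    have := h.map (MulAut.conj g⁻¹ : MulAut G)
    simpa [mul_assoc] using this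
  · intro h
    have := h.map (MulAut.conj g : MulAut G)
    simpa using this

theorem mem_centralizer_sub {H : Subgroup G} {y : G} :
    y ∈ centralizer (H : Set G) ↔ ∀ s ∈ H, Commute y s :=
  mem_centralizer_iff.trans ⟨fun h s hs => (h s hs).symm, fun h s hs => (h s hs).symm⟩

theorem mem_centralizer_one {a y : G} : y ∈ centralizer ({a} : Set G) ↔ Commute y a :=
  mem_centralizer_singleton_iff.trans ⟨fun h => h, fun h => h⟩

variable [Finite G]

theorem mem_smul_sylow {g y : G} {Q : Sylow 2 G} :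
    y ∈ ((g • Q : Sylow 2 G) : Subgroup G) ↔ g⁻¹ * y * g ∈ (Q : Subgroup G) := by
  show y ∈ MulAut.conj g • (Q : Subgroup G) ↔ _
  rw [mem_pointwise_smul_iff_inv_smul_mem, ← map_inv]
  simp [MulAut.smul_def]

theorem le_of_normalizes {U : Subgroup G} (hU : IsPGroup 2 U) (Q : Sylow 2 G)
    (h : U ≤ normalizer ((Q : Subgroup G) : Set G)) : U ≤ (Q : Subgroup G) := by
  haveI := Fact.mk Nat.prime_two
  have h1 := hU.to_sup_of_normal_right' Q.isPGroup' h
  rw [← Q.is_maximal' h1 le_sup_right]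
  exact le_sup_left

theorem isPGroup_zpowers {t : G} (ht : Inv' t) : IsPGroup 2 (zpowers t) := by
  haveI := Fact.mk Nat.prime_two
  exact Pel.isPGroup ⟨1, by rw [pow_one, sq, ht.1]⟩

theorem mem_of_normalizes {t : G} (ht : Inv' t) (Q : Sylow 2 G)
    (h : t ∈ normalizer ((Q : Subgroup G) : Set G)) : t ∈ (Q : Subgroup G) :=
  le_of_normalizes (isPGroup_zpowers ht) Q (zpowers_le.mpr h) (mem_zpowers t)

variable [hp : Fact p.Prime]

theorem Hyp.two_le (h : Hyp G p) {U : Subgroup G} (hU : IsPGroup 2 U) : Nat.card U ≤ p + 1 := by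
  obtain ⟨T, hT⟩ := hU.exists_le_sylow
  exact (h.two T) ▸ Subgroup.card_le_of_le hT

theorem Hyp.sylow_eq (h : Hyp G p) {U : Subgroup G} (hU : IsPGroup 2 U) (hc : p + 1 ≤ Nat.card U) :
    ∃ T : Sylow 2 G, (T : Subgroup G) = U := by
  obtain ⟨T, hT⟩ := hU.exists_le_sylow
  exact ⟨T, (Subgroup.eq_of_le_of_card_ge hT ((h.two T).le.trans hc)).symm⟩

theorem Hyp.two_pow_le (h : Hyp G p) {j : ℕ} (hj : 2 ^ j ∣ Nat.card G) : 2 ^ j ≤ p + 1 := by
  haveI := Fact.mk Nat.prime_two
  obtain ⟨U, hU⟩ := Sylow.exists_subgroup_card_pow_prime 2 hj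
  exact hU ▸ h.two_le (IsPGroup.of_card hU)

/-- A `p`-element moving a 2-subgroup makes it a Sylow subgroup. -/
theorem Hyp.moved_sylow (h : Hyp G p) {U : Subgroup G} (hU : IsPGroup 2 U) {y : G} (hy : Pel p y)
    (hn : y ∈ normalizer (U : Set G)) (hc : y ∉ centralizer (U : Set G)) :
    ∃ T : Sylow 2 G, (T : Subgroup G) = U ∧ Pair p T y := by
  haveI := Fact.mk Nat.prime_two
  obtain ⟨hlt, -⟩ := moved (q := 2) h.ne_two hU hy hn hc
  obtain ⟨T, hT⟩ := h.sylow_eq hU hlt
  exact ⟨T, hT, hy, hT ▸ hn, hT ▸ hc⟩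

theorem Pel.eq_one_of_sq {w : G} (hp2 : p ≠ 2) (hw : Pel p w) (h2 : w * w = 1) : w = 1 := by
  obtain ⟨k, hk⟩ := hw
  obtain ⟨a, ha⟩ := ((hp.out.odd_of_ne_two hp2).pow (n := k))
  rw [ha, pow_succ, pow_mul, sq, h2, one_pow, one_mul] at hk
  exact hk

theorem Pel.not_inv (hp2 : p ≠ 2) {w : G} (hw : Pel p w) : ¬ Inv' w :=
  fun h => h.2 (hw.eq_one_of_sq hp2 h.1)

variable {Q : Sylow 2 G} {x : G}

theorem Pair.smul (hQ : Pair p Q x) (g : G) : Pair p (g • Q) (g * x * g⁻¹) := by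
  refine ⟨hQ.pel.conj g, mem_normalizer_iff.mpr fun y => ?_, fun hc => hQ.move ?_⟩
  · rw [mem_smul_sylow, mem_smul_sylow, mem_normalizer_iff.mp hQ.norm]
    simp [mul_assoc]
  · rw [mem_centralizer_sub] at hc ⊢
    intro s hs
    rw [← commute_conj_iff g]
    exact hc _ (mem_smul_sylow.mpr (by simpa [mul_assoc] using hs))

theorem Pair.trans (hQ : Pair p Q x) (h : Hyp G p) {u v : G} (hu : u ∈ (Q : Subgroup G))
    (hv : v ∈ (Q : Subgroup G)) (hu1 : u ≠ 1) (hv1 : v ≠ 1) :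
    ∃ i : ℤ, x ^ i * u * (x ^ i)⁻¹ = v :=
  haveI := Fact.mk Nat.prime_two
  ((moved (q := 2) h.ne_two Q.isPGroup' hQ.pel hQ.norm hQ.move).2 (h.two Q)).2 u hu v hv hu1 hv1

theorem Pair.fixed (hQ : Pair p Q x) (h : Hyp G p) {y : G} (hy : Pel p y)
    (hn : y ∈ normalizer ((Q : Subgroup G) : Set G)) {t : G} (ht : t ∈ (Q : Subgroup G))
    (ht1 : t ≠ 1) (hyt : Commute y t) : y ∈ centralizer ((Q : Subgroup G) : Set G) := by
  haveI := Fact.mk Nat.prime_two
  by_contra hc
  exact ht1 (((moved (q := 2) h.ne_two Q.isPGroup' hy hn hc).2 (h.two Q)).1 t ht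
    (by rw [hyt.eq]; group))

theorem Pair.elementary (hQ : Pair p Q x) (h : Hyp G p) :
    (∀ s ∈ (Q : Subgroup G), s * s = 1) ∧
      ∀ s ∈ (Q : Subgroup G), ∀ t ∈ (Q : Subgroup G), Commute s t := by
  haveI := Fact.mk Nat.prime_two
  haveI : Nontrivial (Q : Subgroup G) := by
    rw [← Finite.one_lt_card_iff_nontrivial, h.two Q]
    have := hp.out.pos
    omega
  haveI := Q.isPGroup'.center_nontrivial
  have h2 : 2 ∣ Nat.card (center (Q : Subgroup G)) := by
    obtain ⟨k, hk⟩ := IsPGroup.iff_card.mp (Q.isPGroup'.to_subgroup (center (Q : Subgroup G)))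
    rw [hk]
    refine dvd_pow_self 2 ?_
    rintro rfl
    rw [pow_zero] at hk
    have := Finite.one_lt_card (α := center (Q : Subgroup G))
    omega
  obtain ⟨z, hz⟩ := exists_prime_orderOf_dvd_card' 2 h2
  have hzsq : z ^ 2 = 1 := orderOf_dvd_iff_pow_eq_one.mp hz.dvd
  have hz1 : ((z : (Q : Subgroup G)) : G) ≠ 1 := fun e => by
    have : z = 1 := Subtype.ext (Subtype.ext e)
    rw [this, orderOf_one] at hz
    exact absurd hz (by norm_num)
  have hzz : ((z : (Q : Subgroup G)) : G) * (z : (Q : Subgroup G)) = 1 := by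
    have := congrArg (fun a : center (Q : Subgroup G) => ((a : (Q : Subgroup G)) : G)) hzsq
    simpa [sq] using this
  have hcen : ∀ t ∈ (Q : Subgroup G), Commute ((z : (Q : Subgroup G)) : G) t := fun t ht =>
    (congrArg Subtype.val (Subgroup.mem_center_iff.mp z.2 ⟨t, ht⟩)).symm
  have key : ∀ s ∈ (Q : Subgroup G), s * s = 1 ∧ ∀ t ∈ (Q : Subgroup G), Commute s t := by
    intro s hs
    by_cases hs1 : s = 1
    · subst hs1; exact ⟨one_mul 1, fun t _ => Commute.one_left t⟩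
    · obtain ⟨i, rfl⟩ := hQ.trans h (z : (Q : Subgroup G)).2 hs hz1 hs1
      refine ⟨by rw [show ∀ a b : G, a * b * a⁻¹ * (a * b * a⁻¹) = a * (b * b) * a⁻¹ by
        intros; group, hzz]; group, fun t ht => ?_⟩
      have hn : (x ^ i)⁻¹ * t * x ^ i ∈ (Q : Subgroup G) := by
        have hxi := inv_mem (zpow_mem hQ.norm i)
        simpa using (mem_normalizer_iff.mp hxi t).mp ht
      have := (commute_conj_iff (x ^ i) _ _).mpr (hcen _ hn)
      simpa [mul_assoc] using this
  exact ⟨fun s hs => (key s hs).1, fun s hs => (key s hs).2⟩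

theorem Pair.inv_of_mem (hQ : Pair p Q x) (h : Hyp G p) {s : G} (hs : s ∈ (Q : Subgroup G))
    (hs1 : s ≠ 1) : Inv' s :=
  ⟨(hQ.elementary h).1 s hs, hs1⟩

theorem Pair.sylow_le (hQ : Pair p Q x) (h : Hyp G p) {t : G} (ht : t ∈ (Q : Subgroup G)) :
    (Q : Subgroup G) ≤ centralizer ({t} : Set G) :=
  fun _ hs => mem_centralizer_one.mpr ((hQ.elementary h).2 _ hs t ht)

theorem Pair.exists_of_inv (hQ : Pair p Q x) {t : G} (ht : Inv' t) :
    ∃ g : G, t ∈ ((g • Q : Sylow 2 G) : Subgroup G) ∧ Pair p (g • Q) (g * x * g⁻¹) := by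
  haveI := Fact.mk Nat.prime_two
  obtain ⟨T, hT⟩ := (isPGroup_zpowers ht).exists_le_sylow
  obtain ⟨g, rfl⟩ := MulAction.exists_smul_eq G Q T
  exact ⟨g, hT (mem_zpowers t), hQ.smul g⟩

theorem Pair.inv_conj (hQ : Pair p Q x) (h : Hyp G p) {s t : G} (hs : s ∈ (Q : Subgroup G))
    (hs1 : s ≠ 1) (ht : Inv' t) : ∃ g : G, g * s * g⁻¹ = t := by
  obtain ⟨g, hg, -⟩ := hQ.exists_of_inv ht
  rw [mem_smul_sylow] at hg
  have hne : g⁻¹ * t * g ≠ 1 := by
    intro e
    apply ht.2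
    rwa [← conj_eq_one_iff (a := g⁻¹) (b := t), inv_inv]
  obtain ⟨i, hi⟩ := hQ.trans h hs hg hs1 hne
  refine ⟨g * x ^ i, ?_⟩
  rw [show g * x ^ i * s * (g * x ^ i)⁻¹ = g * (x ^ i * s * (x ^ i)⁻¹) * g⁻¹ by group, hi]
  group

/-- The centralizer of an involution. -/
theorem Hyp.centralizer_split (h : Hyp G p) {t : G} (ht : Inv' t) :
    ∃ K : Subgroup G, K ≤ centralizer ({t} : Set G) ∧
      centralizer ({t} : Set G) ≤ normalizer (K : Set G) ∧ IsPGroup p K ∧
      (∀ y, Commute y t → Pel p y → y ∈ K) ∧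
      ∃ j : ℕ, Nat.card (centralizer ({t} : Set G)) = Nat.card K * 2 ^ j := by
  haveI := Fact.mk Nat.prime_two
  set C := centralizer ({t} : Set G)
  have htC : t ∈ C := mem_centralizer_one.mpr (Commute.refl t)
  have h2 : 2 ∣ Nat.card C := by
    have h1 : orderOf (⟨t, htC⟩ : C) = 2 :=
      orderOf_eq_prime (Subtype.ext (by simp [sq, ht.1])) (fun e => ht.2 (congrArg Subtype.val e))
    rw [← h1]
    exact orderOf_dvd_natCard _
  obtain ⟨K, h1, h3, h4, h5, h6⟩ := exists_complement h.mix h.dvd h.ne_two h2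
    (fun U hUC hU y hyC hy hn => by
      by_contra hc
      obtain ⟨T, rfl, hT⟩ := h.moved_sylow hU hy hn hc
      have htT : t ∈ (T : Subgroup G) := mem_of_normalizes ht T (mem_normalizer_iff.mpr fun u => by
        constructor
        · intro hu
          rwa [(mem_centralizer_one.mp (hUC hu)).symm.eq, mul_inv_cancel_right]
        · intro hu
          have h9 := (mem_centralizer_one.mp (hUC hu)).eq
          have : t * u * t⁻¹ = u := by
            have e : t⁻¹ * (t * u * t⁻¹ * t) = t⁻¹ * (t * (t * u * t⁻¹)) := by rw [h9]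
            simp [mul_assoc] at e
            rw [mul_assoc]
            exact e.symm
          rwa [this] at hu)
      exact hc (hT.fixed h hy hn htT ht.2 (mem_centralizer_one.mp hyC)))
  exact ⟨K, h1, h3, h4, fun y hyt hy => h5 y (mem_centralizer_one.mpr hyt) hy, h6⟩

theorem Hyp.pel_commute (h : Hyp G p) {t a b : G} (ht : Inv' t)
    (ha : Pel p a) (hb : Pel p b) (hat : Commute a t) (hbt : Commute b t) : Commute a b := by
  obtain ⟨K, -, -, hK, hmem, -⟩ := h.centralizer_split ht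
  exact h.ab K hK a (hmem a hat ha) b (hmem b hbt hb)

/-- The product of two involutions. -/
theorem product_cases (h : Hyp G p) {s t : G} (hs : Inv' s) (ht : Inv' t) :
    Pel p (s * t) ∨ ∃ v : G, Inv' v ∧ Commute v s ∧ Commute v t ∧ v ∈ zpowers (s * t) := by
  haveI := Fact.mk Nat.prime_two
  set w := s * t with hw
  have hsw : s * w * s⁻¹ = w⁻¹ := by
    rw [hw, mul_inv_rev, hs.inv_eq, ht.inv_eq, ← mul_assoc s s t, hs.1, one_mul]
  have hconj : ∀ k : ℕ, s * w ^ k * s⁻¹ = (w ^ k)⁻¹ := fun k => by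
    rw [← conj_pow, hsw, inv_pow]
  by_cases h2 : 2 ∣ orderOf w
  · right
    set v := w ^ (orderOf w / 2)
    have hv : orderOf v = 2 := orderOf_pow_orderOf_div (orderOf_pos w).ne' h2
    have hv' : Inv' v := ⟨by rw [← sq, ← hv, pow_orderOf_eq_one],
      fun e => by rw [e, orderOf_one] at hv; omega⟩
    have hvs : Commute v s := by
      have h1 : s * v * s⁻¹ = v := by rw [hconj, hv'.inv_eq]
      exact (mul_inv_eq_iff_eq_mul.mp h1).symm
    refine ⟨v, hv', hvs, ?_, pow_mem (mem_zpowers w) _⟩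
    have hvw : Commute v w := Commute.pow_self w _
    have : t = s * w := by rw [hw, ← mul_assoc, hs.1, one_mul]
    rw [this]
    exact hvs.mul_right hvw
  · left
    refine pel_iff_orderOf.mpr fun r hr hrd => by_contra fun hrp => ?_
    haveI := Fact.mk hr
    have hr2 : r ≠ 2 := fun e => h2 (e ▸ hrd)
    have ho : orderOf (w ^ (orderOf w / r)) = r := orderOf_pow_orderOf_div (orderOf_pos w).ne' hrd
    refine not_mixed_pair h.mix h.dvd h.ne_two (isPGroup_zpowers hs)
      (fun e => hs.2 (zpowers_eq_bot.mp e)) hrp hr2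
      (IsPGroup.of_card (p := r) (n := 1) (by rw [Nat.card_zpowers, ho, pow_one]))
      (fun e => hr.ne_one (ho ▸ orderOf_eq_one_iff.mpr (zpowers_eq_bot.mp e))) (Or.inr ?_)
    refine zpowers_le.mpr (mem_normalizer_iff.mpr fun y => ?_)
    have key : ∀ y ∈ zpowers (w ^ (orderOf w / r)),
        s * y * s⁻¹ ∈ zpowers (w ^ (orderOf w / r)) := by
      intro y hy
      obtain ⟨i, rfl⟩ := mem_zpowers_iff.mp hy
      rw [← conj_zpow, hconj]
      exact zpow_mem (inv_mem (mem_zpowers _)) i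
    refine ⟨key y, fun hy => ?_⟩
    have := key _ hy
    rwa [show s * (s * y * s⁻¹) * s⁻¹ = y by
      rw [hs.inv_eq, show s * (s * y * s) * s = (s * s) * y * (s * s) by group, hs.1, one_mul,
        mul_one]] at this

/-- An inverted element and its inverter. -/
theorem inverts_of_product {s t : G} (hs : Inv' s) (ht : Inv' t) :
    s * (s * t) * s⁻¹ = (s * t)⁻¹ := by
  rw [mul_inv_rev, hs.inv_eq, ht.inv_eq, ← mul_assoc s s t, hs.1, one_mul]

theorem Pel.ne_inv (hp2 : p ≠ 2) {w : G} (hw : Pel p w) (hw1 : w ≠ 1) : w⁻¹ ≠ w := fun e =>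
  hw1 (hw.eq_one_of_sq hp2 (by nth_rw 1 [← e]; exact inv_mul_cancel w))

theorem not_commute_inverter (hp2 : p ≠ 2) {w u : G} (hw : Pel p w) (hw1 : w ≠ 1)
    (huw : u * w * u⁻¹ = w⁻¹) : ¬ Commute u w := fun hc => hw.ne_inv hp2 hw1 (by
  rw [← huw, hc.eq]; group)

end CfsgLib.MixedPrimes
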