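import Cfsg.Agent.FGSA.MixedPrimes.Central

/-!
Mixed subgroups: counting when `p`-elements of involution centralizers move nothing.
-/

set_option autoImplicit false
set_option linter.unusedSectionVars false
set_option linter.style.haveILetI false
set_option linter.deprecated false

namespace CfsgLib.MixedPrimes

open Subgroup Pointwise

variable {G : Type*} [Group G] [Finite G] {p : ℕ} [hp : Fact p.Prime]
variable {Q : Sylow 2 G} {x : G}

theorem Pair.invol_mem (hQ : Pair p Q x) (h : Hyp G p) (hI : NoMove G p) {s : G}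
    (hs : s ∈ (Q : Subgroup G)) (hs1 : s ≠ 1) {t : G} (ht : Inv' t) (hts : Commute t s) :
    t ∈ (Q : Subgroup G) := by
  haveI := Fact.mk Nat.prime_two
  obtain ⟨K, hKC, -, hK, hmem, j, hj⟩ := h.centralizer_split (hQ.inv_of_mem h hs hs1)
  set C := centralizer ({s} : Set G)
  have hKQ : K ≤ centralizer ((Q : Subgroup G) : Set G) := fun y hy =>
    hI Q x hQ s hs hs1 y (Pel.of_mem hK hy) (mem_centralizer_one.mp (hKC hy))
  set M := normalizer ((Q : Subgroup G) : Set G) ⊓ C
  have h1 : Nat.card K ∣ Nat.card M := card_dvd_of_le (le_inf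
    (hKQ.trans (Subgroup.centralizer_le_normalizer _)) hKC)
  have h2 : p + 1 ∣ Nat.card M :=
    h.two Q ▸ card_dvd_of_le (le_inf le_normalizer (hQ.sylow_le h hs))
  have hcop : (Nat.card K).Coprime (p + 1) := by
    obtain ⟨k, hk⟩ := IsPGroup.iff_card.mp hK
    rw [hk]
    exact ((Nat.Prime.coprime_iff_not_dvd hp.out).mpr fun hd =>
      hp.out.ne_one (Nat.dvd_one.mp ((Nat.dvd_add_right dvd_rfl).mp hd))).pow_left k
  have h3 := Nat.le_of_dvd Nat.card_pos (hcop.mul_dvd_of_dvd_of_dvd h1 h2)
  have hle : 2 ^ j ≤ p + 1 :=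
    h.two_pow_le ((dvd_mul_left _ _).trans (hj ▸ card_subgroup_dvd_card C))
  have hMC : M = C := Subgroup.eq_of_le_of_card_ge inf_le_right
    (hj.le.trans ((Nat.mul_le_mul_left _ hle).trans h3))
  refine mem_of_normalizes ht Q ?_
  have : t ∈ M := hMC ▸ (mem_centralizer_one.mpr hts : t ∈ C)
  exact this.1

theorem Pair.comm_trans (hQ : Pair p Q x) (h : Hyp G p) (hI : NoMove G p) {v s t : G}
    (hv : Inv' v) (hs : Inv' s) (ht : Inv' t) (hsv : Commute s v) (htv : Commute t v) :
    Commute s t := by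
  obtain ⟨g, hg, hP⟩ := hQ.exists_of_inv hv
  exact (hP.elementary h).2 s (hP.invol_mem h hI hg hv.2 hs hsv) t
    (hP.invol_mem h hI hg hv.2 ht htv)

theorem Pair.pel_of_not_commute (hQ : Pair p Q x) (h : Hyp G p) (hI : NoMove G p) {s t : G}
    (hs : Inv' s) (ht : Inv' t) (hst : ¬ Commute s t) : Pel p (s * t) :=
  (product_cases h hs ht).resolve_right fun ⟨_, hv, hvs, hvt, _⟩ =>
    hst (hQ.comm_trans h hI hv hs ht hvs.symm hvt.symm)

theorem no_inverted_normalizer (h : Hyp G p) {T : Sylow 2 G} {y : G} (hT : Pair p T y) {u w : G}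
    (hu : u ∈ (T : Subgroup G)) (hw : Pel p w) (hw1 : w ≠ 1)
    (hwN : w ∈ normalizer ((T : Subgroup G) : Set G)) (huw : u * w * u⁻¹ = w⁻¹) : False := by
  have h1 : w⁻¹ * u * w ∈ (T : Subgroup G) := by
    simpa using (mem_normalizer_iff.mp (inv_mem hwN) u).mp hu
  have e1 : u * w⁻¹ * u⁻¹ = w := by
    rw [← inv_inj]; simpa [mul_assoc] using huw
  have hui : u⁻¹ = u := inv_eq_of_mul_eq_one_right ((hT.elementary h).1 u hu)
  have h2 : w * w ∈ (T : Subgroup G) := by
    have : u * (w⁻¹ * u * w) = w * w := by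
      nth_rw 2 [← hui]
      rw [← mul_assoc, ← mul_assoc, e1]
    exact this ▸ mul_mem hu h1
  have hw2 : Pel p (w * w) := by
    obtain ⟨k, hk⟩ := hw
    exact ⟨k, by rw [(Commute.refl w).mul_pow, hk, one_mul]⟩
  exact hw1 (hw.eq_one_of_sq h.ne_two (hw2.eq_one_of_sq h.ne_two ((hT.elementary h).1 _ h2)))

theorem mem_normalizer_sylow_of_conj (h : Hyp G p) {T : Sylow 2 G} {y : G} (hT : Pair p T y)
    {u : G} {M : Subgroup G} (hM : M ≤ normalizer ((T : Subgroup G) : Set G))
    (hTM : (T : Subgroup G) ≤ M) (huM : ∀ a ∈ M, u * a * u⁻¹ ∈ M) :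
    u ∈ normalizer ((T : Subgroup G) : Set G) := by
  refine mem_normalizer_fintype fun r hr => ?_
  by_cases hr1 : r = 1
  · rw [SetLike.mem_coe, hr1]; simp
  · exact mem_of_normalizes ((hT.inv_of_mem h hr hr1).conj u) T (hM (huM r (hTM hr)))

theorem Pair.inverted_centralizer (hQ : Pair p Q x) (h : Hyp G p) (hI : NoMove G p)
    (ih : NormalBelow G p) {w u : G} (hw : Pel p w) (hw1 : w ≠ 1) (hu : Inv' u)
    (huw : u * w * u⁻¹ = w⁻¹) :
    ∃ P : Sylow p G, (P : Subgroup G) = centralizer ({w} : Set G) ∧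
      u ∈ normalizer ((P : Subgroup G) : Set G) := by
  haveI := Fact.mk Nat.prime_two
  set C := centralizer ({w} : Set G)
  have huC : ∀ a ∈ C, u * a * u⁻¹ ∈ C := fun a ha => mem_centralizer_one.mpr (by
    have := (commute_conj_iff u a w).mpr (mem_centralizer_one.mp ha)
    rwa [huw, Commute.inv_right_iff] at this)
  have hun : u ∈ normalizer (C : Set G) := mem_normalizer_fintype huC
  have hwc : w ∉ center G := fun e =>
    not_commute_inverter h.ne_two hw hw1 huw (mem_center_iff.mp e u)
  have hodd : ¬ 2 ∣ Nat.card C := by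
    intro hd
    obtain ⟨v, hv⟩ := exists_prime_orderOf_dvd_card' 2 hd
    have hv' : Inv' (v : G) := by
      refine ⟨?_, fun e => ?_⟩
      · have := pow_orderOf_eq_one v
        rw [hv, sq] at this
        exact congrArg Subtype.val this
      · have hv1 : v = 1 := Subtype.ext e
        rw [hv1, orderOf_one] at hv
        exact absurd hv (by norm_num)
    obtain ⟨g, hg, hP⟩ := hQ.exists_of_inv hv'
    have hwP := hI _ _ hP (v : G) hg hv'.2 w hw (mem_centralizer_one.mp v.2).symm
    have hle := hP.centralizer_le h ih hw hwP hwc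
    have hPC : ((g • Q : Sylow 2 G) : Subgroup G) ≤ C := fun r hr =>
      mem_centralizer_one.mpr (mem_centralizer_sub.mp hwP r hr).symm
    have huT := mem_of_normalizes hu _ (mem_normalizer_sylow_of_conj h hP hle hPC huC)
    exact not_commute_inverter h.ne_two hw hw1 huw (mem_centralizer_sub.mp hwP u huT).symm
  have hCp := isPGroup_of_normalized h.mix h.dvd h.ne_two (isPGroup_zpowers hu)
    (fun e => hu.2 (zpowers_eq_bot.mp e)) (zpowers_le.mpr hun) hodd
  obtain ⟨P, hP⟩ := hCp.exists_le_sylow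
  have hPC : (P : Subgroup G) = C := le_antisymm (fun y hy => mem_centralizer_one.mpr
    (h.ab _ P.isPGroup' y hy w (hP (mem_centralizer_one.mpr (Commute.refl w))))) hP
  exact ⟨P, hPC, by rw [hPC]; exact hun⟩

theorem Pair.central_of_inverted (hQ : Pair p Q x) (h : Hyp G p) (hI : NoMove G p)
    (ih : NormalBelow G p) {w u : G} (hw : Pel p w) (hw1 : w ≠ 1) (hu : Inv' u)
    (huw : u * w * u⁻¹ = w⁻¹) {z : G} (hz : Pel p z)
    (hzQ : z ∈ centralizer ((Q : Subgroup G) : Set G)) : z ∈ center G := by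
  by_contra hzc
  obtain ⟨P, hP, huP⟩ := hQ.inverted_centralizer h hI ih hw hw1 hu huw
  obtain ⟨P1, hP1⟩ := hz.isPGroup.exists_le_sylow
  obtain ⟨g, rfl⟩ := MulAction.exists_smul_eq G P1 P
  have hz' : g * z * g⁻¹ ∈ ((g • P1 : Sylow p G) : Subgroup G) := by
    show g * z * g⁻¹ ∈ MulAut.conj g • (P1 : Subgroup G)
    exact ⟨z, hP1 (mem_zpowers z), by simp⟩
  set z' := g * z * g⁻¹ with hz'def
  have hT := hQ.smul g
  have hz'Q : z' ∈ centralizer (((g • Q : Sylow 2 G) : Subgroup G) : Set G) := by
    rw [mem_centralizer_sub] at hzQ ⊢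
    intro r hr
    have := (commute_conj_iff g _ _).mpr (hzQ _ (mem_smul_sylow.mp hr))
    simpa [hz'def, mul_assoc] using this
  have hz'c : z' ∉ center G := fun e => hzc (by
    have := (inferInstance : (center G).Normal).conj_mem _ e g⁻¹
    simpa [hz'def, mul_assoc] using this)
  have hle := hT.centralizer_le h ih (hz.conj g) hz'Q hz'c
  have hcomm : ∀ a ∈ ((g • P1 : Sylow p G) : Subgroup G),
      ∀ b ∈ ((g • P1 : Sylow p G) : Subgroup G), Commute a b := h.ab _ (g • P1).isPGroup'
  have hwz : Commute w z' := (mem_centralizer_one.mp (hP ▸ hz')).symm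
  set z'' := u * z' * u⁻¹ with hz''
  have hz''P : z'' ∈ ((g • P1 : Sylow p G) : Subgroup G) := (mem_normalizer_iff.mp huP _).mp hz'
  have huz'' : u * z'' * u⁻¹ = z' := by
    rw [hz'', hu.inv_eq, show u * (u * z' * u) * u = (u * u) * z' * (u * u) by group, hu.1, one_mul,
      mul_one]
  set y := z' * z'' with hy
  have hyP : y ∈ ((g • P1 : Sylow p G) : Subgroup G) := mul_mem hz' hz''P
  by_cases hyc : y ∈ center G
  · refine no_inverted_normalizer h hT (mem_of_normalizes hu _
      (mem_normalizer_sylow_of_conj h hT hle ?_ ?_)) hw hw1 (hle (mem_centralizer_one.mpr hwz)) huw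
    · exact fun r hr => mem_centralizer_one.mpr (mem_centralizer_sub.mp hz'Q r hr).symm
    · intro a ha
      refine mem_centralizer_one.mpr ?_
      have h1 := (commute_conj_iff u a z').mpr (mem_centralizer_one.mp ha)
      have h2 : Commute (u * a * u⁻¹) y := mem_center_iff.mp hyc _
      have h3 : z' = y * z''⁻¹ := by rw [hy, mul_inv_cancel_right]
      show Commute (u * a * u⁻¹) z'
      rw [h3]
      exact h2.mul_right h1.inv_right
  · have hyu : Commute y u := by
      have h1 : u * y * u⁻¹ = y := by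
        rw [hy, ← conj_mul, huz'', ← hz'']
        exact (hcomm _ hz''P _ hz').eq
      exact (mul_inv_eq_iff_eq_mul.mp h1).symm
    obtain ⟨g', hg', hT'⟩ := hQ.exists_of_inv hu
    have hyQ := hI _ _ hT' u hg' hu.2 y (Pel.of_mem (g • P1).isPGroup' hyP) hyu
    have hle' := hT'.centralizer_le h ih (Pel.of_mem (g • P1).isPGroup' hyP) hyQ hyc
    refine no_inverted_normalizer h hT' hg' hw hw1 (hle' (mem_centralizer_one.mpr ?_)) huw
    exact (mem_centralizer_one.mp (hP ▸ hyP)).symm

theorem eq_of_conj_div {u y a : G} (hu : u * u = 1) (hy : u * y * u⁻¹ = y⁻¹)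
    (ha : a = y * y) : y⁻¹ * u * y = u * a := by
  have hui : u⁻¹ = u := inv_eq_of_mul_eq_one_right hu
  have h1 : y⁻¹ * u = u * y := by
    rw [← hy, hui, show u * y * u * u = u * y * (u * u) by group, hu, mul_one]
  rw [h1, ha, mul_assoc]

theorem caseOne (hQ : Pair p Q x) (h : Hyp G p) (hI : NoMove G p) (ih : NormalBelow G p) :
    (Q : Subgroup G).Normal := by
  classical
  haveI := Fintype.ofFinite G
  haveI := Fact.mk Nat.prime_two
  obtain ⟨s, hsQ, hs1⟩ := hQ.exists_ne_one h
  have hs := hQ.inv_of_mem h hsQ hs1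
  -- the involutions commuting with `s` are those of `Q`
  by_cases hall : ∀ t : G, Inv' t → Commute t s
  · refine ⟨fun r hr g => ?_⟩
    by_cases hr1 : r = 1
    · rw [hr1]; simp
    · have ht := (hQ.inv_of_mem h hr hr1).conj g
      exact hQ.invol_mem h hI hsQ hs1 ht (hall _ ht)
  exfalso
  push_neg at hall
  obtain ⟨t₀, ht₀, hnc₀⟩ := hall
  have hC0 : ∀ z : G, Pel p z → z ∈ centralizer ((Q : Subgroup G) : Set G) → z ∈ center G := by
    intro z hz hzQ
    refine hQ.central_of_inverted h hI ih (hQ.pel_of_not_commute h hI hs ht₀ (fun e => hnc₀ e.symm))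
      (fun e => hnc₀ ?_) hs (inverts_of_product hs ht₀) hz hzQ
    have : t₀ = s := by
      rw [← one_mul t₀, ← hs.1, mul_assoc, e, mul_one]
    rw [this]
  -- a `p`-element commuting with an involution is central
  have hfix : ∀ u y : G, Inv' u → Pel p y → Commute y u → y ∈ center G := by
    intro u y hu hy hyu
    obtain ⟨g, hg⟩ := hQ.inv_conj h hsQ hs1 hu
    have h1 : Commute (g⁻¹ * y * g) s := by
      rw [← commute_conj_iff g, hg]
      simpa [mul_assoc] using hyu
    have hp' : Pel p (g⁻¹ * y * g) := by simpa using hy.conj g⁻¹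
    have h2 := hC0 _ hp' (hI Q x hQ s hsQ hs1 _ hp' h1)
    have := (inferInstance : (center G).Normal).conj_mem _ h2 g
    simpa [mul_assoc] using this
  obtain ⟨K, hKC, -, hK, hKmem, j, hj⟩ := h.centralizer_split hs
  set C := centralizer ({s} : Set G) with hC
  have hKc : ∀ y, y ∈ K ↔ Pel p y ∧ y ∈ center G := fun y =>
    ⟨fun hy => ⟨Pel.of_mem hK hy, hfix s y hs (Pel.of_mem hK hy) (mem_centralizer_one.mp (hKC hy))⟩,
      fun hy => hKmem y (mem_center_iff.mp hy.2 s).symm hy.1⟩
  -- the noncommuting involutions and their Sylow subgroups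
  set Ts : Finset G := Finset.univ.filter fun t => Inv' t ∧ ¬ Commute s t with hTs
  let cz : G → Subgroup G := fun t => centralizer ({s * t} : Set G)
  have hTsmem : ∀ t, t ∈ Ts ↔ Inv' t ∧ ¬ Commute s t := fun t => by simp [hTs]
  have hprod : ∀ t ∈ Ts, Pel p (s * t) ∧ s * t ≠ 1 ∧ s * (s * t) * s⁻¹ = (s * t)⁻¹ := by
    intro t ht
    obtain ⟨ht1, ht2⟩ := (hTsmem t).mp ht
    refine ⟨hQ.pel_of_not_commute h hI hs ht1 ht2, fun e => ht2 ?_, inverts_of_product hs ht1⟩
    have : t = s := by rw [← one_mul t, ← hs.1, mul_assoc, e, mul_one]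
    rw [this]
  set Pset := Ts.image cz with hPset
  have hsyl : ∀ A ∈ Pset, ∃ P : Sylow p G, (P : Subgroup G) = A ∧
      s ∈ normalizer ((P : Subgroup G) : Set G) ∧
      ∃ w ∈ (P : Subgroup G), w ≠ 1 ∧ s * w * s⁻¹ = w⁻¹ := by
    intro A hA
    obtain ⟨t, ht, rfl⟩ := Finset.mem_image.mp hA
    obtain ⟨h1, h2, h3⟩ := hprod t ht
    obtain ⟨P, hP, hPn⟩ := hQ.inverted_centralizer h hI ih h1 h2 hs h3
    exact ⟨P, hP, hPn, s * t, hP ▸ mem_centralizer_one.mpr (Commute.refl _), h2, h3⟩
  -- the elements inverted by `s` in one of these Sylow subgroups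
  let pp := p ^ (Nat.card G).factorization p
  have hpart : ∀ P : Sylow p G, ∀ (hn : s ∈ normalizer ((P : Subgroup G) : Set G)),
      (Finset.univ.filter fun y => y ∈ (P : Subgroup G) ∧ s * y * s⁻¹ = y⁻¹).card * Nat.card K =
        pp := by
    intro P hn
    have hKP : K ≤ (P : Subgroup G) := fun y hy => ((hKc y).mp hy).1.mem_sylow P
      (Subgroup.centralizer_le_normalizer _ (mem_centralizer_sub.mpr fun r _ =>
        (mem_center_iff.mp ((hKc y).mp hy).2 r).symm))
    have hc := h.ab _ P.isPGroup'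
    let f : (P : Subgroup G) →* (P : Subgroup G) :=
      { toFun := fun y => ⟨(y : G)⁻¹ * (s * y * s⁻¹),
          mul_mem (inv_mem y.2) ((mem_normalizer_iff.mp hn _).mp y.2)⟩
        map_one' := Subtype.ext (by simp)
        map_mul' := fun a b => Subtype.ext (by
          show ((a : G) * b)⁻¹ * (s * (a * b) * s⁻¹) =
            ((a : G)⁻¹ * (s * a * s⁻¹)) * ((b : G)⁻¹ * (s * b * s⁻¹))
          have ha' : s * (a : G) * s⁻¹ ∈ (P : Subgroup G) := (mem_normalizer_iff.mp hn _).mp a.2
          rw [← conj_mul, mul_inv_rev]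
          calc (b : G)⁻¹ * (a : G)⁻¹ * (s * a * s⁻¹ * (s * b * s⁻¹))
              = ((b : G)⁻¹ * ((a : G)⁻¹ * (s * a * s⁻¹))) * (s * b * s⁻¹) := by simp only [mul_assoc]
            _ = ((a : G)⁻¹ * (s * a * s⁻¹) * (b : G)⁻¹) * (s * b * s⁻¹) := by
                rw [(hc _ (inv_mem b.2) _ (mul_mem (inv_mem a.2) ha')).eq]
            _ = _ := by simp only [mul_assoc]) }
    have hker : f.ker = K.subgroupOf (P : Subgroup G) := by
      ext y
      rw [MonoidHom.mem_ker, mem_subgroupOf]
      constructor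
      · intro hy
        have h1 : (y : G)⁻¹ * (s * y * s⁻¹) = 1 := congrArg Subtype.val hy
        rw [inv_mul_eq_one] at h1
        exact (hKc y).mpr ⟨Pel.of_mem P.isPGroup' y.2, hfix s y hs (Pel.of_mem P.isPGroup' y.2)
          (eq_mul_inv_iff_mul_eq.mp h1)⟩
      · intro hy
        refine Subtype.ext ?_
        show (y : G)⁻¹ * (s * y * s⁻¹) = 1
        rw [mem_center_iff.mp ((hKc y).mp hy).2 s, mul_inv_cancel_right, inv_mul_cancel]
    have hrange : ∀ y : (P : Subgroup G), y ∈ f.range ↔ s * (y : G) * s⁻¹ = (y : G)⁻¹ := by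
      intro y
      constructor
      · rintro ⟨a, rfl⟩
        show s * ((a : G)⁻¹ * (s * a * s⁻¹)) * s⁻¹ = ((a : G)⁻¹ * (s * a * s⁻¹))⁻¹
        simp only [mul_inv_rev, inv_inv, hs.inv_eq]
        calc s * ((a : G)⁻¹ * (s * (a : G) * s)) * s
            = s * (a : G)⁻¹ * s * (a : G) * (s * s) := by group
          _ = _ := by rw [hs.1, mul_one]; group
      · intro hy
        obtain ⟨k, hk⟩ := Pel.of_mem P.isPGroup' y.2
        obtain ⟨m, hm⟩ := ((hp.out.odd_of_ne_two h.ne_two).pow (n := k))
        refine ⟨(⟨(y : G), y.2⟩ : (P : Subgroup G)) ^ m, Subtype.ext ?_⟩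
        show ((y : G) ^ m)⁻¹ * (s * (y : G) ^ m * s⁻¹) = y
        rw [← conj_pow, hy, inv_pow, ← mul_inv_rev, ← pow_add]
        rw [hm] at hk
        have : (y : G) ^ (m + m) * y = 1 := by
          rw [← pow_succ, ← two_mul]; exact hk
        exact inv_eq_of_mul_eq_one_right this
    have hcr : Nat.card f.range =
        (Finset.univ.filter fun y => y ∈ (P : Subgroup G) ∧ s * y * s⁻¹ = y⁻¹).card := by
      rw [← Fintype.card_subtype, ← Nat.card_eq_fintype_card]
      exact Nat.card_congr
        { toFun := fun y => ⟨((y : (P : Subgroup G)) : G), (y : (P : Subgroup G)).2, (hrange _).mp y.2⟩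
          invFun := fun y => ⟨⟨y.1, y.2.1⟩, (hrange _).mpr y.2.2⟩
          left_inv := fun _ => rfl
          right_inv := fun _ => rfl }
    rw [← hcr, show Nat.card K = Nat.card f.ker by
      rw [hker]; exact (Nat.card_congr (subgroupOfEquivOfLe hKP).toEquiv).symm]
    rw [← Subgroup.index_ker, mul_comm, Subgroup.card_mul_index]
    exact P.card_eq_multiplicity
  obtain ⟨A₀, hA₀⟩ : Pset.Nonempty :=
    ⟨cz t₀, Finset.mem_image_of_mem _ ((hTsmem t₀).mpr ⟨ht₀, fun e => hnc₀ e.symm⟩)⟩
  obtain ⟨P₀, hP₀, hP₀n, w₀, hw₀P, hw₀1, hw₀⟩ := hsyl A₀ hA₀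
  set ι := (Finset.univ.filter fun y => y ∈ (P₀ : Subgroup G) ∧ s * y * s⁻¹ = y⁻¹).card with hι
  have hιK : ι * Nat.card K = pp := hpart P₀ hP₀n
  have hιp : p ∣ ι := by
    have h1 : ι ∣ p ^ (Nat.card G).factorization p := ⟨Nat.card K, hιK.symm⟩
    obtain ⟨m, -, hm⟩ := (Nat.dvd_prime_pow hp.out).mp h1
    rw [hm]
    refine dvd_pow_self p ?_
    rintro rfl
    rw [pow_zero] at hm
    have h2 : ({1, w₀} : Finset G) ⊆
        Finset.univ.filter fun y => y ∈ (P₀ : Subgroup G) ∧ s * y * s⁻¹ = y⁻¹ := by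
      intro y hy
      rw [Finset.mem_insert, Finset.mem_singleton] at hy
      rcases hy with rfl | rfl <;> simp [one_mem, hw₀P, hw₀]
    have := Finset.card_le_card h2
    rw [Finset.card_pair (Ne.symm hw₀1), ← hι, hm] at this
    omega
  -- every fibre has one element fewer than `ι`
  have hfib : ∀ A ∈ Pset, (Ts.filter fun t => cz t = A).card + 1 = ι := by
    intro A hA
    obtain ⟨P, hP, hPn, -, -, -, -⟩ := hsyl A hA
    have e : (Finset.univ.filter fun y => y ∈ (P : Subgroup G) ∧ s * y * s⁻¹ = y⁻¹).card = ι :=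
      Nat.eq_of_mul_eq_mul_right Nat.card_pos ((hpart P hPn).trans hιK.symm)
    rw [← e, ← Finset.card_erase_add_one (s := Finset.univ.filter fun y =>
      y ∈ (P : Subgroup G) ∧ s * y * s⁻¹ = y⁻¹) (a := 1) (by simp [one_mem])]
    congr 1
    refine Finset.card_bij' (fun t _ => s * t) (fun y _ => s * y) ?_ ?_ ?_ ?_
    · intro t ht
      rw [Finset.mem_filter] at ht
      rw [Finset.mem_erase, Finset.mem_filter]
      exact ⟨(hprod t ht.1).2.1, Finset.mem_univ _,
        hP ▸ ht.2 ▸ mem_centralizer_one.mpr (Commute.refl _), (hprod t ht.1).2.2⟩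
    · intro y hy
      rw [Finset.mem_erase, Finset.mem_filter] at hy
      obtain ⟨hy1, -, hyP, hys⟩ := hy
      have hpy : Pel p y := Pel.of_mem P.isPGroup' hyP
      have hsy : s * y * s = y⁻¹ := by rw [← hys, hs.inv_eq]
      have ht : Inv' (s * y) := by
        refine ⟨by rw [show s * y * (s * y) = (s * y * s) * y by group, hsy, inv_mul_cancel],
          fun e => hpy.not_inv h.ne_two ?_⟩
        have : y = s := by rw [← one_mul y, ← hs.1, mul_assoc, e, mul_one]
        exact this ▸ hs
      have hnc : ¬ Commute s (s * y) := fun e =>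
        not_commute_inverter h.ne_two hpy hy1 hys (by
          have := (Commute.refl s).mul_right e
          rwa [← mul_assoc, hs.1, one_mul] at this)
      rw [Finset.mem_filter, hTsmem]
      refine ⟨⟨ht, hnc⟩, ?_⟩
      show centralizer ({s * (s * y)} : Set G) = A
      rw [← mul_assoc, hs.1, one_mul]
      obtain ⟨P', hP', -⟩ := hQ.inverted_centralizer h hI ih hpy hy1 hs hys
      have hle : (P : Subgroup G) ≤ (P' : Subgroup G) := hP' ▸ fun r hr =>
        mem_centralizer_one.mpr (h.ab _ P.isPGroup' r hr y hyP)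
      rw [← hP', ← hP]
      exact P.is_maximal' P'.isPGroup' hle
    · intro t _; rw [← mul_assoc, hs.1, one_mul]
    · intro y _; rw [← mul_assoc, hs.1, one_mul]
  have hTscard : Ts.card + Pset.card = Pset.card * ι := by
    rw [Finset.card_eq_sum_card_image cz Ts]
    have : (∑ b ∈ Pset, ((Ts.filter fun a => cz a = b).card + 1)) = Pset.card * ι := by
      rw [Finset.sum_congr rfl hfib, Finset.sum_const, smul_eq_mul]
    rwa [Finset.sum_add_distrib, Finset.sum_const, smul_eq_mul, mul_one] at this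
  -- the number of involutions
  set Is : Finset G := Finset.univ.filter Inv' with hIs
  have hsplit : Is.card = Ts.card + p := by
    have hQs : (Finset.univ.filter fun t => Inv' t ∧ Commute s t).card = p := by
      have : (Finset.univ.filter fun t => Inv' t ∧ Commute s t) =
          ((Finset.univ.filter fun t => t ∈ (Q : Subgroup G)).erase 1) := by
        ext t
        simp only [Finset.mem_erase, Finset.mem_filter, Finset.mem_univ, true_and]
        exact ⟨fun ⟨a, b⟩ => ⟨a.2, hQ.invol_mem h hI hsQ hs1 a b.symm⟩,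
          fun ⟨a, b⟩ => ⟨hQ.inv_of_mem h b a, (hQ.elementary h).2 s hsQ t b⟩⟩
      rw [this, Finset.card_erase_of_mem (by simp [one_mem]), ← Fintype.card_subtype,
        ← Nat.card_eq_fintype_card, h.two Q]
      omega
    rw [← hQs, hTs, hIs, ← Finset.card_union_of_disjoint]
    · congr 1
      ext t
      simp only [Finset.mem_union, Finset.mem_filter, Finset.mem_univ, true_and]
      tauto
    · rw [Finset.disjoint_filter]
      exact fun t _ h1 h2 => h1.2 h2.2
  have hindex : C.index = Is.card := by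
    rw [hIs, ← Fintype.card_subtype, ← Nat.card_eq_fintype_card, Subgroup.index]
    let f : G ⧸ C → {t : G // Inv' t} := fun a => ⟨a.out * s * a.out⁻¹, hs.conj _⟩
    refine Nat.card_eq_of_bijective f ⟨fun a b hab => ?_, fun t => ?_⟩
    · have h1 : a.out * s * a.out⁻¹ = b.out * s * b.out⁻¹ := congrArg Subtype.val hab
      have h2 : a.out⁻¹ * b.out ∈ C := mem_centralizer_one.mpr (by
        show a.out⁻¹ * b.out * s = s * (a.out⁻¹ * b.out)
        calc a.out⁻¹ * b.out * s = a.out⁻¹ * (b.out * s * b.out⁻¹) * b.out := by group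
          _ = a.out⁻¹ * (a.out * s * a.out⁻¹) * b.out := by rw [h1]
          _ = _ := by group)
      rw [← a.out_eq', ← b.out_eq', QuotientGroup.eq]
      exact h2
    · obtain ⟨g, hg⟩ := hQ.inv_conj h hsQ hs1 t.2
      refine ⟨(g : G ⧸ C), Subtype.ext ?_⟩
      obtain ⟨c, hc⟩ := QuotientGroup.mk_out_eq_mul C g
      show (g : G ⧸ C).out * s * (g : G ⧸ C).out⁻¹ = t
      have hcs : (c : G) * s = s * c := (mem_centralizer_one.mp c.2).eq
      rw [hc, ← hg]
      calc g * c * s * (g * c)⁻¹ = g * (c * s) * (c : G)⁻¹ * g⁻¹ := by group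
        _ = _ := by rw [hcs]; group
  have hpn : p ∣ Is.card := by
    have h1 : ι * Nat.card K ∣ Is.card * (Nat.card K * 2 ^ j) := by
      rw [← hindex, ← hj, Subgroup.index_mul_card, hιK]
      exact Nat.ordProj_dvd _ _
    have h2 : ι ∣ Is.card * 2 ^ j :=
      Nat.dvd_of_mul_dvd_mul_right Nat.card_pos (by rwa [mul_assoc, mul_comm (2 ^ j)])
    rcases hp.out.dvd_mul.mp (hιp.trans h2) with h3 | h3
    · exact h3
    · exact absurd ((Nat.prime_dvd_prime_iff_eq hp.out Nat.prime_two).mp
        (hp.out.dvd_of_dvd_pow h3)) h.ne_two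
  -- the Sylow subgroups normalized by `s` form one orbit of its centralizer
  have hPsetp : ¬ p ∣ Pset.card := by
    letI := MulAction.compHom (Subgroup G) ((MulAut.conj : G →* MulAut G).comp C.subtype)
    have hsmul : ∀ (c : C) (A : Subgroup G), c • A = MulAut.conj (c : G) • A := fun _ _ => rfl
    have horb : (MulAction.orbit C A₀) = (Pset : Set (Subgroup G)) := by
      ext A
      constructor
      · rintro ⟨c, rfl⟩
        obtain ⟨t, ht, hte⟩ := Finset.mem_image.mp hA₀
        rw [Finset.mem_coe, Finset.mem_image]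
        refine ⟨(c : G) * t * (c : G)⁻¹, ?_, ?_⟩
        · obtain ⟨ht1, ht2⟩ := (hTsmem t).mp ht
          refine (hTsmem _).mpr ⟨ht1.conj _, fun e => ht2 ?_⟩
          rw [← commute_conj_iff (c : G), show (c : G) * s * (c : G)⁻¹ = s by
            rw [(mem_centralizer_one.mp c.2).eq, mul_inv_cancel_right]]
          exact e
        · show centralizer ({s * ((c : G) * t * (c : G)⁻¹)} : Set G) = c • A₀
          ext y
          rw [← hte, hsmul, mem_pointwise_smul_iff_inv_smul_mem, ← map_inv, MulAut.smul_def,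
            MulAut.conj_apply, inv_inv]
          show y ∈ centralizer ({s * ((c : G) * t * (c : G)⁻¹)} : Set G) ↔
            _ ∈ centralizer ({s * t} : Set G)
          rw [mem_centralizer_one, mem_centralizer_one, ← commute_conj_iff (c : G) ((c : G)⁻¹ * y * c),
            show (c : G) * (s * t) * (c : G)⁻¹ = s * ((c : G) * t * (c : G)⁻¹) by
              rw [← mul_assoc _ s t, (mem_centralizer_one.mp c.2).eq]; group,
            show (c : G) * ((c : G)⁻¹ * y * c) * (c : G)⁻¹ = y by group]
      · intro hA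
        rw [Finset.mem_coe] at hA
        obtain ⟨P, hP, hPn, -, -, -, -⟩ := hsyl A hA
        obtain ⟨g, hg⟩ := MulAction.exists_smul_eq G P₀ P
        have hgP : MulAut.conj g • (P₀ : Subgroup G) = A := by
          rw [← hP, ← hg]; rfl
        set u := g⁻¹ * s * g with hu
        have hui : Inv' u := by simpa [hu] using hs.conj g⁻¹
        have hun : u ∈ normalizer ((P₀ : Subgroup G) : Set G) := by
          refine mem_normalizer_iff.mpr fun r => ?_
          have key : ∀ r, r ∈ (P₀ : Subgroup G) ↔ g * r * g⁻¹ ∈ A := fun r => by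
            rw [← hgP, mem_pointwise_smul_iff_inv_smul_mem, ← map_inv, MulAut.smul_def,
              MulAut.conj_apply]
            simp [mul_assoc]
          rw [key r, key, ← hP, mem_normalizer_iff.mp hPn]
          simp [hu, mul_assoc]
        -- modulo central elements both invert, so they are conjugate under `P₀`
        obtain ⟨v, hvP, hv⟩ : ∃ v ∈ (P₀ : Subgroup G), v⁻¹ * s * v = u := by
          by_cases hsu : Commute s u
          · by_cases he : u = s
            · exact ⟨1, one_mem _, by rw [he]; simp⟩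
            exfalso
            set y := s * u
            have hy : Inv' y := ⟨by
              rw [show s * u * (s * u) = s * (u * s) * u by group, ← hsu.eq,
                show s * (s * u) * u = (s * s) * (u * u) by group, hs.1, hui.1, one_mul],
              fun e => he (by
                rw [← one_mul u, ← hs.1, mul_assoc, (show s * u = 1 from e), mul_one])⟩
            apply not_commute_inverter h.ne_two (Pel.of_mem P₀.isPGroup' hw₀P) hw₀1 hw₀
            have hwu : u * w₀ * u⁻¹ ∈ (P₀ : Subgroup G) := (mem_normalizer_iff.mp hun _).mp hw₀P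
            have hc1 : w₀ * (u * w₀ * u⁻¹) ∈ center G := by
              refine hfix u _ hui (Pel.of_mem P₀.isPGroup' (mul_mem hw₀P hwu)) ?_
              have h1 : u * (w₀ * (u * w₀ * u⁻¹)) * u⁻¹ = w₀ * (u * w₀ * u⁻¹) := by
                rw [← conj_mul, show u * (u * w₀ * u⁻¹) * u⁻¹ = (u * u) * w₀ * (u * u)⁻¹ by group,
                  hui.1, one_mul, inv_one, mul_one]
                exact (h.ab _ P₀.isPGroup' _ hwu _ hw₀P).eq
              exact (mul_inv_eq_iff_eq_mul.mp h1).symm
            set c := w₀ * (u * w₀ * u⁻¹)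
            have huw : u * w₀ * u⁻¹ = w₀⁻¹ * c := (inv_mul_cancel_left _ _).symm
            have hyw : y * w₀ * y⁻¹ = w₀ * c := by
              rw [show y * w₀ * y⁻¹ = s * (u * w₀ * u⁻¹) * s⁻¹ by simp [y, mul_assoc], huw,
                ← conj_mul, ← conj_inv, hw₀, inv_inv, mem_center_iff.mp hc1 s, mul_inv_cancel_right]
            have hc2 : c * c = 1 := by
              have h1 : y * (w₀ * c) * y⁻¹ = w₀ := by
                rw [← hyw, show y * (y * w₀ * y⁻¹) * y⁻¹ = (y * y) * w₀ * (y * y)⁻¹ by group, hy.1]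
                simp
              rw [← conj_mul, hyw, mem_center_iff.mp hc1 y, mul_inv_cancel_right, mul_assoc] at h1
              exact mul_eq_left.mp h1
            have hc3 : c = 1 :=
              (Pel.of_mem P₀.isPGroup' (mul_mem hw₀P hwu)).eq_one_of_sq h.ne_two hc2
            rw [hc3, mul_one] at hyw
            have hwy : Commute w₀ y := (mul_inv_eq_iff_eq_mul.mp hyw).symm
            exact mem_center_iff.mp (hfix y w₀ hy (Pel.of_mem P₀.isPGroup' hw₀P) hwy) s
          · have hpel := hQ.pel_of_not_commute h hI hs hui hsu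
            have hin : s * u ∈ (P₀ : Subgroup G) :=
              hpel.mem_sylow P₀ (mul_mem hP₀n hun)
            obtain ⟨k, hk⟩ := hpel
            obtain ⟨m, hm⟩ := ((hp.out.odd_of_ne_two h.ne_two).pow (n := k))
            refine ⟨(s * u) ^ (m + 1), pow_mem hin _, ?_⟩
            rw [eq_of_conj_div hs.1 (by rw [← conj_pow, inverts_of_product hs hui, inv_pow]) rfl,
              ← pow_add, show m + 1 + (m + 1) = 2 * m + 1 + 1 by ring, pow_succ, ← hm, hk, one_mul,
              ← mul_assoc, hs.1, one_mul]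
        refine ⟨⟨g * v⁻¹, mem_centralizer_one.mpr ?_⟩, ?_⟩
        · show g * v⁻¹ * s = s * (g * v⁻¹)
          calc g * v⁻¹ * s = g * (v⁻¹ * s * v) * v⁻¹ := by group
            _ = _ := by rw [hv, hu]; group
        · show MulAut.conj (g * v⁻¹) • A₀ = A
          rw [map_mul, mul_smul, ← hP₀, conj_smul_eq_self_of_mem (inv_mem hvP), hgP]
    intro hd
    have h1 : (MulAction.stabilizer C A₀).index = Pset.card := by
      rw [MulAction.index_stabilizer, horb, Set.ncard_coe_finset]
    have h2 : K.subgroupOf C ≤ MulAction.stabilizer C A₀ := by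
      intro y hy
      rw [MulAction.mem_stabilizer_iff, hsmul]
      ext r
      rw [mem_pointwise_smul_iff_inv_smul_mem, ← map_inv, MulAut.smul_def, MulAut.conj_apply,
        inv_inv, mul_assoc, show r * (y : G) = (y : G) * r from mem_center_iff.mp ((hKc _).mp hy).2 r,
        inv_mul_cancel_left]
    have h3 : (K.subgroupOf C).index = 2 ^ j := by
      have := Subgroup.card_mul_index (K.subgroupOf C)
      rw [Nat.card_congr (subgroupOfEquivOfLe hKC).toEquiv, hj] at this
      exact Nat.eq_of_mul_eq_mul_left Nat.card_pos this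
    have h4 := Subgroup.index_dvd_of_le h2
    rw [h1, h3] at h4
    exact h.ne_two ((Nat.prime_dvd_prime_iff_eq hp.out Nat.prime_two).mp
      (hp.out.dvd_of_dvd_pow (hd.trans h4)))
  apply hPsetp
  have : p ∣ Is.card + Pset.card := by
    rw [hsplit, add_right_comm, hTscard]
    exact Dvd.dvd.add (hιp.mul_left _) dvd_rfl
  exact (Nat.dvd_add_right hpn).mp this

end CfsgLib.MixedPrimes
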