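import Mathlib

/-!
A finite regular symmetric irreflexive relation in which two distinct points have exactly one common
neighbour has valency at most two.
-/

set_option autoImplicit false
set_option linter.style.haveILetI false
set_option linter.deprecated false

namespace CfsgLib.MixedPrimes

open Matrix

theorem friendship_regular {V : Type*} [Fintype V] [DecidableEq V] [Nonempty V] (R : V → V → Prop)
    [DecidableRel R] (hsymm : ∀ a b, R a b → R b a) (hirr : ∀ a, ¬ R a a) (k : ℕ)
    (hk : ∀ a, (Finset.univ.filter (R a)).card = k)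
    (hone : ∀ a b, a ≠ b → (Finset.univ.filter fun c => R a c ∧ R c b).card = 1) : k ≤ 2 := by
  by_contra hlt
  obtain ⟨r, hr, hrd⟩ := Nat.exists_prime_and_dvd (show k - 1 ≠ 1 by omega)
  haveI := Fact.mk hr
  have hk1 : (k : ZMod r) = 1 := by
    have : ((k - 1 : ℕ) : ZMod r) = 0 := (CharP.cast_eq_zero_iff (ZMod r) r (k - 1)).mpr hrd
    rw [show k = (k - 1) + 1 by omega, Nat.cast_add, this, Nat.cast_one, zero_add]
  let A : Matrix V V (ZMod r) := Matrix.of fun a b => if R a b then 1 else 0
  let J : Matrix V V (ZMod r) := Matrix.of fun _ _ => 1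
  have hAJ : A * J = J := by
    ext a b
    simp only [Matrix.mul_apply, A, J, Matrix.of_apply, mul_one, Finset.sum_boole]
    rw [hk a, hk1]
  have hAA : A * A = J := by
    ext a b
    simp only [Matrix.mul_apply, A, J, Matrix.of_apply, boole_mul, ← ite_and, Finset.sum_boole]
    by_cases hab : a = b
    · subst hab
      rw [show (Finset.univ.filter fun c => R a c ∧ R c a) = Finset.univ.filter (R a) from
        Finset.filter_congr fun c _ => ⟨fun h => h.1, fun h => ⟨h, hsymm _ _ h⟩⟩, hk a, hk1]
    · rw [hone a b hab, Nat.cast_one]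
  have hJJ : J * J = J := by
    nth_rw 1 [← hAA]
    rw [Matrix.mul_assoc, hAJ, hAJ]
  have hn : (Fintype.card V : ZMod r) = 1 := by
    have := congrFun (congrFun hJJ (Classical.arbitrary V)) (Classical.arbitrary V)
    simpa [Matrix.mul_apply, J] using this
  have hpow : ∀ m, A ^ (m + 2) = J := by
    intro m
    induction m with
    | zero => rw [zero_add, pow_two, hAA]
    | succ m ih => rw [show m + 1 + 2 = (m + 2) + 1 by ring, pow_succ', ih, hAJ]
  have htr := ZMod.trace_pow_card A
  have hJ : A ^ r = J := by
    obtain ⟨m, hm⟩ : ∃ m, m + 2 = r := ⟨r - 2, by have := hr.two_le; omega⟩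
    have := hpow m
    rwa [hm] at this
  rw [hJ] at htr
  have h0 : Matrix.trace A = 0 := by
    simp [Matrix.trace, A, hirr]
  rw [h0, zero_pow hr.ne_zero] at htr
  simp [Matrix.trace, J, hn] at htr

end CfsgLib.MixedPrimes
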