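import Cfsg.Agent.FGSA.MixedPrimes.Central
import Cfsg.Agent.FGSA.MixedPrimes.Friendship

/-!
Mixed subgroups: `p`-elements of involution centralizers inverted by involutions are impossible.
-/

set_option autoImplicit false
set_option linter.unusedSectionVars false
set_option linter.style.haveILetI false
set_option linter.deprecated false

namespace CfsgLib.MixedPrimes

open Subgroup Pointwise

variable {G : Type*} [Group G] [Finite G] {p : ℕ} [hp : Fact p.Prime]
variable {Q : Sylow 2 G} {x : G}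

/-- `p`-elements centralizing a moved Sylow 2-subgroup are central. -/
def CentralBelow (G : Type*) [Group G] (p : ℕ) : Prop :=
  ∀ (Q : Sylow 2 G) (x : G), Pair p Q x → ∀ z : G, Pel p z →
    z ∈ centralizer ((Q : Subgroup G) : Set G) → z ∈ center G

/-- A `p`-element centralized or inverted by each element of `Q`, and inverted by one. -/
def Eig (p : ℕ) (Q : Sylow 2 G) (w : G) : Prop :=
  Pel p w ∧ w ≠ 1 ∧ (∀ s ∈ (Q : Subgroup G), s * w * s⁻¹ = w ∨ s * w * s⁻¹ = w⁻¹) ∧
    ∃ s ∈ (Q : Subgroup G), s * w * s⁻¹ = w⁻¹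

theorem commute_of_conj_eq {s w : G} (h : s * w * s⁻¹ = w) : Commute s w :=
  mul_inv_eq_iff_eq_mul.mp h

theorem conj_eq_of_commute {s w : G} (h : Commute s w) : s * w * s⁻¹ = w := by
  rw [h.eq, mul_inv_cancel_right]

theorem Eig.not_central (h : Hyp G p) {w : G} (hw : Eig p Q w) : w ∉ center G := by
  obtain ⟨s, -, hs⟩ := hw.2.2.2
  exact fun e => not_commute_inverter h.ne_two hw.1 hw.2.1 hs (mem_center_iff.mp e s)

theorem no_sylow_le (hZ : CentralBelow G p) {T : Sylow 2 G} {y : G} (hT : Pair p T y) {w : G}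
    (hw : Pel p w) (hwc : w ∉ center G) : ¬ (T : Subgroup G) ≤ centralizer ({w} : Set G) :=
  fun hle => hwc (hZ T y hT w hw (mem_centralizer_sub.mpr fun r hr =>
    (mem_centralizer_one.mp (hle hr)).symm))

theorem noAction_centralizer (h : Hyp G p) (hZ : CentralBelow G p) {w : G} (hw : Pel p w)
    (hwc : w ∉ center G) : NoAction p 2 (centralizer ({w} : Set G)) := by
  intro U hU hU2 y _ hy hn
  by_contra hc
  obtain ⟨T, rfl, hT⟩ := h.moved_sylow hU2 hy hn hc
  exact no_sylow_le hZ hT hw hwc hU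

theorem Pair.exists_commuting (hQ : Pair p Q x) (h : Hyp G p) {w : G}
    (hall : ∀ r ∈ (Q : Subgroup G), r * w * r⁻¹ = w ∨ r * w * r⁻¹ = w⁻¹) :
    ∃ r ∈ (Q : Subgroup G), r ≠ 1 ∧ Commute r w := by
  by_contra hno
  push_neg at hno
  have hinv : ∀ r ∈ (Q : Subgroup G), r ≠ 1 → r * w * r⁻¹ = w⁻¹ := fun r hr hr1 =>
    (hall r hr).resolve_left fun e => hno r hr hr1 (commute_of_conj_eq e)
  obtain ⟨s, hs, hs1⟩ := hQ.exists_ne_one h
  haveI := Fintype.ofFinite (Q : Subgroup G)
  obtain ⟨r, hr1, hrs⟩ : ∃ r : (Q : Subgroup G), r ≠ 1 ∧ r ≠ ⟨s, hs⟩ := by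
    by_contra hne
    push_neg at hne
    have h1 : Fintype.card (Q : Subgroup G) ≤ 2 := by
      classical
      calc Fintype.card (Q : Subgroup G) = (Finset.univ : Finset (Q : Subgroup G)).card := rfl
        _ ≤ ({1, ⟨s, hs⟩} : Finset (Q : Subgroup G)).card := Finset.card_le_card fun r _ => by
            rw [Finset.mem_insert, Finset.mem_singleton]
            exact or_iff_not_imp_left.mpr (hne r)
        _ ≤ 2 := Finset.card_le_two
    rw [← Nat.card_eq_fintype_card, h.two Q] at h1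
    have := hp.out.two_le
    omega
  have hrs' : (r : G) * s ≠ 1 := fun e => hrs (Subtype.ext (by
    rw [eq_inv_of_mul_eq_one_left e, (hQ.inv_of_mem h hs hs1).inv_eq]))
  refine hno _ (mul_mem r.2 hs) hrs' (commute_of_conj_eq ?_)
  rw [mul_inv_rev, show (r : G) * s * w * (s⁻¹ * (r : G)⁻¹) = (r : G) * (s * w * s⁻¹) * (r : G)⁻¹ by
    group, hinv s hs hs1, ← conj_inv, hinv r r.2 (fun e => hr1 (Subtype.ext e)), inv_inv]

theorem Eig.sylow (hQ : Pair p Q x) (h : Hyp G p) (hZ : CentralBelow G p) {w : G}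
    (hw : Eig p Q w) : ∃ P : Sylow p G, (∀ y, Pel p y → (Commute y w ↔ y ∈ (P : Subgroup G))) ∧
      (Q : Subgroup G) ≤ normalizer ((P : Subgroup G) : Set G) := by
  haveI := Fact.mk Nat.prime_two
  obtain ⟨r, hr, hr1, hrw⟩ := hQ.exists_commuting h hw.2.2.1
  set C := centralizer ({w} : Set G) with hC
  have h2 : 2 ∣ Nat.card C := by
    have h1 : orderOf (⟨r, mem_centralizer_one.mpr hrw⟩ : C) = 2 :=
      orderOf_eq_prime (Subtype.ext (by simp [sq, (hQ.elementary h).1 r hr]))
        (fun e => hr1 (congrArg Subtype.val e))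
    rw [← h1]
    exact orderOf_dvd_natCard _
  obtain ⟨S, -, -, hS, hmem, -⟩ := exists_complement h.mix h.dvd h.ne_two h2
    (noAction_centralizer h hZ hw.1 (hw.not_central h))
  obtain ⟨P, hP⟩ := hw.1.isPGroup.exists_le_sylow
  have hPC : ∀ y ∈ (P : Subgroup G), Commute y w := fun y hy =>
    h.ab _ P.isPGroup' y hy w (hP (mem_zpowers w))
  have hSP : S = (P : Subgroup G) := P.is_maximal' hS fun y hy =>
    hmem y (mem_centralizer_one.mpr (hPC y hy)) (Pel.of_mem P.isPGroup' hy)
  have hiff : ∀ y, Pel p y → (Commute y w ↔ y ∈ (P : Subgroup G)) := fun y hy =>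
    ⟨fun hc => hSP ▸ hmem y (mem_centralizer_one.mpr hc) hy, hPC y⟩
  refine ⟨P, hiff, fun s hs => mem_normalizer_fintype fun y hy => ?_⟩
  have hpy : Pel p y := Pel.of_mem P.isPGroup' hy
  refine (hiff _ (hpy.conj s)).mp ?_
  have h1 := (commute_conj_iff s y w).mpr (hPC y hy)
  rcases hw.2.2.1 s hs with e | e <;> rw [e] at h1
  · exact h1
  · exact Commute.inv_right_iff.mp h1

theorem sylow_eq_of_mem (h : Hyp G p) {w w' : G} {P P' : Sylow p G}
    (hP' : ∀ y, Pel p y → (Commute y w' ↔ y ∈ (P' : Subgroup G))) (hw' : w' ∈ (P : Subgroup G)) :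
    P = P' := by
  have hle : (P : Subgroup G) ≤ (P' : Subgroup G) := fun y hy =>
    (hP' y (Pel.of_mem P.isPGroup' hy)).mp (h.ab _ P.isPGroup' y hy w' hw')
  exact (Sylow.ext (P.is_maximal' P'.isPGroup' hle)).symm

theorem sylow_eq_of_share (h : Hyp G p) {w w' : G} (hw : Pel p w) (hw' : Pel p w') {P P' : Sylow p G}
    (hP : ∀ y, Pel p y → (Commute y w ↔ y ∈ (P : Subgroup G)))
    (hP' : ∀ y, Pel p y → (Commute y w' ↔ y ∈ (P' : Subgroup G))) {e : G} (he : Inv' e)
    (h1 : Commute w e) (h2 : Commute w' e) : P = P' :=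
  sylow_eq_of_mem h (w := w) hP' ((hP w' hw').mp (h.pel_commute he hw' hw h2 h1))

theorem Pair.centralizes (hQ : Pair p Q x) (h : Hyp G p) (P : Sylow p G)
    (hQP : (Q : Subgroup G) ≤ normalizer ((P : Subgroup G) : Set G)) {g : G} (hg : Pel p g)
    (hgQ : g ∈ normalizer ((Q : Subgroup G) : Set G))
    (hgP : g ∈ normalizer ((P : Subgroup G) : Set G)) :
    g ∈ centralizer ((Q : Subgroup G) : Set G) := by
  have hgm := hg.mem_sylow P hgP
  refine mem_centralizer_sub.mpr fun s hs => ?_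
  have h1 : g * s * g⁻¹ * s⁻¹ ∈ (Q : Subgroup G) :=
    mul_mem ((mem_normalizer_iff.mp hgQ s).mp hs) (inv_mem hs)
  have h2 : g * s * g⁻¹ * s⁻¹ ∈ (P : Subgroup G) := by
    rw [show g * s * g⁻¹ * s⁻¹ = g * (s * g⁻¹ * s⁻¹) by group]
    exact mul_mem hgm ((mem_normalizer_iff.mp (hQP hs) _).mp (inv_mem hgm))
  have h3 := (Pel.of_mem P.isPGroup' h2).eq_one_of_sq h.ne_two ((hQ.elementary h).1 _ h1)
  rw [mul_inv_eq_one] at h3
  exact commute_of_conj_eq h3

theorem Eig.conj {w g : G} (hw : Eig p Q w) (hg : g ∈ normalizer ((Q : Subgroup G) : Set G)) :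
    Eig p Q (g * w * g⁻¹) := by
  obtain ⟨hp', hw1, hall, s, hs, hsw⟩ := hw
  refine ⟨hp'.conj g, fun e => hw1 (conj_eq_one_iff.mp e), fun r hr => ?_,
    ⟨g * s * g⁻¹, (mem_normalizer_iff.mp hg s).mp hs, ?_⟩⟩
  · have hr' : g⁻¹ * r * g ∈ (Q : Subgroup G) := by
      simpa using (mem_normalizer_iff.mp (inv_mem hg) r).mp hr
    have e : r * (g * w * g⁻¹) * r⁻¹ = g * ((g⁻¹ * r * g) * w * (g⁻¹ * r * g)⁻¹) * g⁻¹ := by group
    rcases hall _ hr' with e' | e'
    · left; rw [e, e']
    · right; rw [e, e']; group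
  · rw [show g * s * g⁻¹ * (g * w * g⁻¹) * (g * s * g⁻¹)⁻¹ = g * (s * w * s⁻¹) * g⁻¹ by group, hsw]
    group

theorem Pair.overlap (hQ : Pair p Q x) (h : Hyp G p) (hZ : CentralBelow G p) {w w' g e : G}
    {P : Sylow p G} (hw : Eig p Q w) (hP : ∀ y, Pel p y → (Commute y w ↔ y ∈ (P : Subgroup G)))
    (hQP : (Q : Subgroup G) ≤ normalizer ((P : Subgroup G) : Set G))
    (hP' : ∀ y, Pel p y → (Commute y w' ↔ y ∈ (P : Subgroup G))) (hw' : Pel p w')
    (hg : Pel p g) (hgQ : g ∈ normalizer ((Q : Subgroup G) : Set G)) (he : Inv' e)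
    (h1 : Commute (g * w * g⁻¹) e) (h2 : Commute w' e) :
    g ∈ centralizer ((Q : Subgroup G) : Set G) := by
  obtain ⟨P₂, hP₂, -⟩ := (hw.conj hgQ).sylow hQ h hZ
  have heq := sylow_eq_of_share h (hw.1.conj g) hw' hP₂ hP' he h1 h2
  refine hQ.centralizes h P hQP hg hgQ (mem_normalizer_fintype fun y hy => ?_)
  have hpy : Pel p y := Pel.of_mem P.isPGroup' hy
  rw [SetLike.mem_coe, ← heq]
  exact (hP₂ _ (hpy.conj g)).mp ((commute_conj_iff g y w).mpr ((hP y hpy).mpr hy))

theorem Pair.exists_eig (hQ : Pair p Q x) (h : Hyp G p) (hZ : CentralBelow G p) {A : Subgroup G}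
    (hA : IsPGroup p A) (hQA : (Q : Subgroup G) ≤ normalizer (A : Set G)) {y : G} (hy : y ∈ A)
    (hyQ : y ∉ centralizer ((Q : Subgroup G) : Set G)) : ∃ w ∈ A, Eig p Q w := by
  haveI : Nonempty {w : G // w ∈ A ∧ w ∉ centralizer ((Q : Subgroup G) : Set G)} := ⟨⟨y, hy, hyQ⟩⟩
  obtain ⟨⟨w, hwA, hwQ⟩, hmax⟩ := Finite.exists_max
    (fun w : {w : G // w ∈ A ∧ w ∉ centralizer ((Q : Subgroup G) : Set G)} =>
      Nat.card ((Q : Subgroup G) ⊓ centralizer ({(w : G)} : Set G) : Subgroup G))
  have hc := h.ab A hA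
  have hel := hQ.elementary h
  have hconjA : ∀ s ∈ (Q : Subgroup G), ∀ a ∈ A, s * a * s⁻¹ ∈ A := fun s hs a ha =>
    (mem_normalizer_iff.mp (hQA hs) a).mp ha
  have hkey : ∀ s ∈ (Q : Subgroup G), ¬ Commute s w → w * (s * w * s⁻¹) ∈ center G := by
    intro s hs hsw
    set z := w * (s * w * s⁻¹)
    have hzA : z ∈ A := mul_mem hwA (hconjA s hs w hwA)
    by_contra hzc
    have hzQ : z ∉ centralizer ((Q : Subgroup G) : Set G) := fun e =>
      hzc (hZ Q x hQ z (Pel.of_mem hA hzA) e)
    have hsz : Commute s z := by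
      refine commute_of_conj_eq ?_
      rw [← conj_mul, show s * (s * w * s⁻¹) * s⁻¹ = (s * s) * w * (s * s)⁻¹ by group, hel.1 s hs]
      simp only [one_mul, inv_one, mul_one]
      exact (hc _ (hconjA s hs w hwA) w hwA).eq
    have hlt : ((Q : Subgroup G) ⊓ centralizer ({w} : Set G) : Subgroup G) <
        (Q : Subgroup G) ⊓ centralizer ({z} : Set G) := by
      refine lt_of_le_of_ne (fun r hr => ⟨hr.1, ?_⟩) fun e => hsw ?_
      · have h1 : Commute r w := mem_centralizer_one.mp hr.2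
        exact mem_centralizer_one.mpr (h1.mul_right (((hel.2 r hr.1 s hs).mul_right h1).mul_right
          (hel.2 r hr.1 s hs).inv_right))
      · have : s ∈ ((Q : Subgroup G) ⊓ centralizer ({z} : Set G) : Subgroup G) :=
          ⟨hs, mem_centralizer_one.mpr hsz⟩
        rw [← e] at this
        exact mem_centralizer_one.mp this.2
    have hle := hmax ⟨z, hzA, hzQ⟩
    exact absurd (Subgroup.eq_of_le_of_card_ge hlt.le hle) hlt.ne
  obtain ⟨s₀, hs₀, hs₀w⟩ : ∃ s ∈ (Q : Subgroup G), ¬ Commute s w := by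
    by_contra hno
    push_neg at hno
    exact hwQ (mem_centralizer_sub.mpr fun s hs => (hno s hs).symm)
  set w₁ := w⁻¹ * (s₀ * w * s₀⁻¹) with hw₁
  have hw₁A : w₁ ∈ A := mul_mem (inv_mem hwA) (hconjA s₀ hs₀ w hwA)
  have hinv₀ : s₀ * w₁ * s₀⁻¹ = w₁⁻¹ := by
    rw [hw₁, ← conj_mul, ← conj_inv,
      show s₀ * (s₀ * w * s₀⁻¹) * s₀⁻¹ = (s₀ * s₀) * w * (s₀ * s₀)⁻¹ by group, hel.1 s₀ hs₀]
    simp [mul_assoc]
  refine ⟨w₁, hw₁A, Pel.of_mem hA hw₁A, fun e => hs₀w ?_, fun r hr => ?_, s₀, hs₀, hinv₀⟩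
  · rw [hw₁, inv_mul_eq_one] at e
    exact commute_of_conj_eq e.symm
  · have hfixw : ∀ t ∈ (Q : Subgroup G), Commute t w → t * w₁ * t⁻¹ = w₁ := fun t ht htw =>
      conj_eq_of_commute (htw.inv_right.mul_right (((hel.2 t ht s₀ hs₀).mul_right htw).mul_right
        (hel.2 t ht s₀ hs₀).inv_right))
    by_cases hrw : Commute r w
    · exact Or.inl (hfixw r hr hrw)
    right
    have hrs : Commute (r * s₀) w := by
      by_contra hns
      set a := r * w * r⁻¹
      set b := r * s₀ * w * (r * s₀)⁻¹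
      have haA := hconjA r hr w hwA
      have hbA := hconjA _ (mul_mem hr hs₀) w hwA
      have c1 := mem_center_iff.mp (hkey r hr hrw)
      have c2 := mem_center_iff.mp (hkey _ (mul_mem hr hs₀) hns)
      have c3 := mem_center_iff.mp (hkey s₀ hs₀ hs₀w) r
      have h1 : r * (w * (s₀ * w * s₀⁻¹)) * r⁻¹ = w * (s₀ * w * s₀⁻¹) := by
        rw [c3, mul_inv_cancel_right]
      have h2 : a * b = w * (s₀ * w * s₀⁻¹) := by
        rw [← h1]; simp only [a, b]; group
      have h3 : w * w ∈ center G := by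
        have hm : (w * a) * (w * b) * (w * (s₀ * w * s₀⁻¹))⁻¹ ∈ center G :=
          mul_mem (mul_mem (hkey r hr hrw) (hkey _ (mul_mem hr hs₀) hns))
            (inv_mem (hkey s₀ hs₀ hs₀w))
        rw [← h2] at hm
        have : (w * a) * (w * b) * (a * b)⁻¹ = w * w := by
          rw [(hc a haA w hwA).mul_mul_mul_comm w b, mul_inv_cancel_right]
        rwa [this] at hm
      have h4 : r * (w * w) * r⁻¹ = w * w := by
        rw [mem_center_iff.mp h3 r, mul_inv_cancel_right]
      have h5 : (w⁻¹ * a) * (w⁻¹ * a) = 1 := by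
        rw [← conj_mul] at h4
        rw [(hc w⁻¹ (inv_mem hwA) a haA).symm.mul_mul_mul_comm]
        rw [show a * a = w * w from h4]
        group
      have h6 := (Pel.of_mem hA (mul_mem (inv_mem hwA) haA)).eq_one_of_sq h.ne_two h5
      rw [inv_mul_eq_one] at h6
      exact hrw (commute_of_conj_eq h6.symm)
    have e : r = (r * s₀) * s₀ := by rw [mul_assoc, hel.1 s₀ hs₀, mul_one]
    rw [e, show r * s₀ * s₀ * w₁ * (r * s₀ * s₀)⁻¹ =
      (r * s₀) * (s₀ * w₁ * s₀⁻¹) * (r * s₀)⁻¹ by group, hinv₀, ← conj_inv,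
      hfixw _ (mul_mem hr hs₀) hrs]

/-- The configuration: a nontrivial orbit of a `p`-element on the involutions of `Q`. -/
theorem Pair.exists_center_involution (hQ : Pair p Q x) (h : Hyp G p) (hZ : CentralBelow G p)
    (hbad : ∃ t ∈ (Q : Subgroup G), t ≠ 1 ∧ ∃ y, Pel p y ∧ Commute y t ∧
      y ∉ centralizer ((Q : Subgroup G) : Set G)) :
    Nat.card (Q : Subgroup G) = 4 ∧ ∀ v : G, Inv' v → ∃ (P : Sylow p G) (w r : G),
      (∀ y ∈ (P : Subgroup G), Commute y v) ∧ w ∈ (P : Subgroup G) ∧ Pel p w ∧ w ≠ 1 ∧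
      Inv' r ∧ Commute r v ∧ r * w * r⁻¹ = w⁻¹ := by
  haveI := Fact.mk Nat.prime_two
  have hel := hQ.elementary h
  obtain ⟨t, ht, ht1, y, hy, hyt, hyQ⟩ := hbad
  obtain ⟨K, hKC, hKn, hK, hKmem, -⟩ := h.centralizer_split (hQ.inv_of_mem h ht ht1)
  obtain ⟨w, hwK, hw⟩ := hQ.exists_eig h hZ hK ((hQ.sylow_le h ht).trans hKn) (hKmem y hyt hy) hyQ
  obtain ⟨P, hP, hQP⟩ := hw.sylow hQ h hZ
  obtain ⟨s, hs, hsw⟩ := hw.2.2.2
  set E : Subgroup G := (Q : Subgroup G) ⊓ centralizer ({w} : Set G) with hE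
  have hsplit : ∀ r ∈ (Q : Subgroup G), r ∈ E ∨ r * s ∈ E := by
    intro r hr
    rcases hw.2.2.1 r hr with e | e
    · exact Or.inl ⟨hr, mem_centralizer_one.mpr (commute_of_conj_eq e)⟩
    · refine Or.inr ⟨mul_mem hr hs, mem_centralizer_one.mpr (commute_of_conj_eq ?_)⟩
      rw [show r * s * w * (r * s)⁻¹ = r * (s * w * s⁻¹) * r⁻¹ by group, hsw, ← conj_inv, e, inv_inv]
  have hcard : Nat.card (Q : Subgroup G) ≤ 2 * Nat.card E := by
    classical
    rw [show 2 * Nat.card E = Nat.card (E × Bool) by simp [Nat.card_prod, mul_comm]]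
    refine Nat.card_le_card_of_surjective
      (fun eb : E × Bool => (⟨(eb.1 : G) * (if eb.2 then s else 1),
        mul_mem eb.1.2.1 (by split <;> first | exact hs | exact one_mem _)⟩ : (Q : Subgroup G))) ?_
    intro r
    rcases hsplit r r.2 with e | e
    · exact ⟨(⟨r, e⟩, false), Subtype.ext (by simp)⟩
    · exact ⟨(⟨(r : G) * s, e⟩, true), Subtype.ext (by simp [mul_assoc, hel.1 s hs])⟩
  -- the Sylow 2-subgroup has order four
  have h4 : Nat.card (Q : Subgroup G) = 4 := by
    have hp3 := hp.out.two_le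
    have hne := h.ne_two
    rw [h.two Q] at hcard ⊢
    by_contra hne4
    have hbig : 5 ≤ p + 1 := by omega
    have hfix : ∃ e ∈ E, e ≠ 1 ∧ x⁻¹ * e * x ∈ E := by
      by_contra hno
      push_neg at hno
      have hinj : Function.Injective (fun ab : E × E => (⟨(ab.1 : G) * (x * (ab.2 : G) * x⁻¹),
          mul_mem ab.1.2.1 ((mem_normalizer_iff.mp hQ.norm _).mp ab.2.2.1)⟩ : (Q : Subgroup G))) := by
        rintro ⟨a, b⟩ ⟨a', b'⟩ hab
        have h1 : (a : G) * (x * (b : G) * x⁻¹) = (a' : G) * (x * (b' : G) * x⁻¹) :=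
          congrArg Subtype.val hab
        have h2 : (a' : G)⁻¹ * a = x * ((b' : G) * (b : G)⁻¹) * x⁻¹ := by
          rw [inv_mul_eq_iff_eq_mul, eq_comm]
          calc (a' : G) * (x * ((b' : G) * (b : G)⁻¹) * x⁻¹)
              = ((a' : G) * (x * (b' : G) * x⁻¹)) * (x * (b : G) * x⁻¹)⁻¹ := by group
            _ = _ := by rw [← h1, mul_inv_cancel_right]
        have hm : (a' : G)⁻¹ * a ∈ E := mul_mem (inv_mem a'.2) a.2
        have h3 : (a' : G)⁻¹ * a = 1 := by
          by_contra hne1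
          refine hno _ hm hne1 ?_
          rw [h2, show x⁻¹ * (x * ((b' : G) * (b : G)⁻¹) * x⁻¹) * x = (b' : G) * (b : G)⁻¹ by group]
          exact mul_mem b'.2 (inv_mem b.2)
        rw [inv_mul_eq_one] at h3
        have ha : a = a' := Subtype.ext h3.symm
        subst ha
        simpa using h1
      have h5 := Nat.card_le_card_of_injective _ hinj
      rw [Nat.card_prod, h.two Q] at h5
      have h6 : 3 ≤ Nat.card E := by omega
      have := Nat.mul_le_mul_right (Nat.card E) h6
      omega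
    obtain ⟨e, he, he1, hxe⟩ := hfix
    refine hQ.move (hQ.overlap h hZ hw hP hQP hP hw.1 hQ.pel hQ.norm (hQ.inv_of_mem h he.1 he1) ?_
      (mem_centralizer_one.mp he.2).symm)
    have h1 := (commute_conj_iff x _ w).mpr (mem_centralizer_one.mp hxe.2)
    rw [show x * (x⁻¹ * e * x) * x⁻¹ = e by group] at h1
    exact h1.symm
  refine ⟨h4, fun v hv => ?_⟩
  obtain ⟨e, he, he1⟩ : ∃ e ∈ E, e ≠ 1 := by
    by_contra hno
    push_neg at hno
    have : E = ⊥ := eq_bot_iff.mpr fun r hr => Subgroup.mem_bot.mpr (hno r hr)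
    rw [this, Subgroup.card_bot, h4] at hcard
    omega
  have hei := hQ.inv_of_mem h he.1 he1
  -- `e` centralizes all of `P`
  have hPe : ∀ a ∈ (P : Subgroup G), Commute a e := by
    intro a ha
    by_contra hae
    have hPc := h.ab _ P.isPGroup'
    let A : Subgroup G :=
      { carrier := {b | b ∈ (P : Subgroup G) ∧ e * b * e⁻¹ = b⁻¹}
        one_mem' := ⟨one_mem _, by group⟩
        mul_mem' := fun {b c} hb hc => ⟨mul_mem hb.1 hc.1, by
          rw [← conj_mul, hb.2, hc.2, mul_inv_rev]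
          exact (hPc _ (inv_mem hb.1) _ (inv_mem hc.1)).eq⟩
        inv_mem' := fun {b} hb => ⟨inv_mem hb.1, by rw [← conj_inv, hb.2]⟩ }
    have hQA : (Q : Subgroup G) ≤ normalizer (A : Set G) := fun r hr =>
      mem_normalizer_fintype fun b hb => ⟨(mem_normalizer_iff.mp (hQP hr) b).mp hb.1, by
        rw [show e * (r * b * r⁻¹) * e⁻¹ = (e * r) * b * (e * r)⁻¹ by group,
          (hel.2 e he.1 r hr).eq, show r * e * b * (r * e)⁻¹ = r * (e * b * e⁻¹) * r⁻¹ by group, hb.2]
        group⟩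
    set b := a⁻¹ * (e * a * e⁻¹)
    have heP := mem_normalizer_iff.mp (hQP he.1)
    have hbA : b ∈ A := ⟨mul_mem (inv_mem ha) ((heP _).mp ha), by
      simp only [b]
      rw [← conj_mul, ← conj_inv, show e * (e * a * e⁻¹) * e⁻¹ = (e * e) * a * (e * e)⁻¹ by group,
        hei.1]
      simp [mul_assoc]⟩
    have hbQ : b ∉ centralizer ((Q : Subgroup G) : Set G) := fun hb => by
      have h1 := conj_eq_of_commute (mem_centralizer_sub.mp hb e he.1).symm
      have h2 : b⁻¹ = b := hbA.2.symm.trans h1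
      by_cases hb1 : b = 1
      · simp only [b, inv_mul_eq_one] at hb1
        exact hae (commute_of_conj_eq hb1.symm).symm
      · exact (Pel.of_mem P.isPGroup' hbA.1).ne_inv h.ne_two hb1 h2
    obtain ⟨w', hw'A, hw'⟩ := hQ.exists_eig h hZ (P.isPGroup'.to_le (show A ≤ (P : Subgroup G) from fun c hc => hc.1)) hQA hbA hbQ
    obtain ⟨P', hP', -⟩ := hw'.sylow hQ h hZ
    obtain rfl : P = P' := sylow_eq_of_mem h (w := w) hP' hw'A.1
    obtain ⟨e', he', he'1, he'w⟩ := hQ.exists_commuting h hw'.2.2.1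
    obtain ⟨i, hi⟩ := hQ.trans h he.1 he' he1 he'1
    have hxi : Pel p (x ^ i) := Pel.of_mem hQ.pel.isPGroup (zpow_mem (mem_zpowers x) i)
    have hew : Commute w e := (mem_centralizer_one.mp he.2).symm
    have hge : Commute (x ^ i * w * (x ^ i)⁻¹) e' := by
      rw [← hi, commute_conj_iff]
      exact hew
    have hc := hQ.overlap h hZ hw hP hQP hP' hw'.1 hxi (zpow_mem hQ.norm i)
      (hQ.inv_of_mem h he' he'1) hge he'w.symm
    have hee : e' = e := by rw [← hi, conj_eq_of_commute (mem_centralizer_sub.mp hc e he.1)]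
    exact not_commute_inverter h.ne_two hw'.1 hw'.2.1 hw'A.2 (hee ▸ he'w)
  obtain ⟨g, hg⟩ := hQ.inv_conj h he.1 he1 hv
  refine ⟨g • P, g * w * g⁻¹, g * s * g⁻¹, fun a ha => ?_, ?_, hw.1.conj g,
    fun e' => hw.2.1 (conj_eq_one_iff.mp e'), (hQ.inv_of_mem h hs fun e' => ?_).conj g, ?_, ?_⟩
  · have ha' : g⁻¹ * a * g ∈ (P : Subgroup G) := by
      have h0 : a ∈ MulAut.conj g • (P : Subgroup G) := ha
      rw [mem_pointwise_smul_iff_inv_smul_mem, ← map_inv, MulAut.smul_def, MulAut.conj_apply,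
        inv_inv] at h0
      exact h0
    have := (commute_conj_iff g _ _).mpr (hPe _ ha')
    rw [hg] at this
    simpa [mul_assoc] using this
  · show g * w * g⁻¹ ∈ MulAut.conj g • (P : Subgroup G)
    exact ⟨w, (hP w hw.1).mp (Commute.refl w), by simp⟩
  · refine not_commute_inverter h.ne_two hw.1 hw.2.1 hsw ?_
    rw [e']; exact Commute.one_left w
  · rw [← hg, commute_conj_iff]
    exact hel.2 s hs e he.1
  · rw [show g * s * g⁻¹ * (g * w * g⁻¹) * (g * s * g⁻¹)⁻¹ = g * (s * w * s⁻¹) * g⁻¹ by group, hsw]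
    group

theorem commuting_unique (h : Hyp G p) (h4 : p + 1 = 4) {s t v : G} (hs : Inv' s) (ht : Inv' t)
    (hv : Inv' v) (hst : Commute s t) (hne : s ≠ t) (hvs : Commute v s) (hvt : Commute v t) :
    v = s ∨ v = t ∨ v = s * t := by
  classical
  by_contra hno
  push_neg at hno
  haveI := Fact.mk Nat.prime_two
  have h1 : IsPGroup 2 (zpowers t ⊔ zpowers s : Subgroup G) :=
    (isPGroup_zpowers ht).to_sup_of_normal_right' (isPGroup_zpowers hs)
      ((zpowers_le.mpr (mem_centralizer_sub.mpr fun a ha => by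
        obtain ⟨i, rfl⟩ := mem_zpowers_iff.mp ha
        exact hst.symm.zpow_right i)).trans (Subgroup.centralizer_le_normalizer _))
  have h2 : IsPGroup 2 (zpowers v ⊔ (zpowers t ⊔ zpowers s) : Subgroup G) :=
    (isPGroup_zpowers hv).to_sup_of_normal_right' h1
      ((zpowers_le.mpr (mem_centralizer_sub.mpr fun a ha => by
        have : (zpowers t ⊔ zpowers s : Subgroup G) ≤ centralizer ({v} : Set G) :=
          sup_le (zpowers_le.mpr (mem_centralizer_one.mpr hvt.symm))
            (zpowers_le.mpr (mem_centralizer_one.mpr hvs.symm))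
        exact (mem_centralizer_one.mp (this ha)).symm)).trans (Subgroup.centralizer_le_normalizer _))
  obtain ⟨T, hT⟩ := h2.exists_le_sylow
  haveI := Fintype.ofFinite G
  have hsub : ({1, s, t, s * t, v} : Finset G) ⊆
      Finset.univ.filter (fun a => a ∈ (T : Subgroup G)) := by
    have ms : s ∈ (T : Subgroup G) := hT (mem_sup_right (mem_sup_right (mem_zpowers s)))
    have mt : t ∈ (T : Subgroup G) := hT (mem_sup_right (mem_sup_left (mem_zpowers t)))
    have mv : v ∈ (T : Subgroup G) := hT (mem_sup_left (mem_zpowers v))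
    intro a ha
    simp only [Finset.mem_insert, Finset.mem_singleton] at ha
    rcases ha with rfl | rfl | rfl | rfl | rfl <;> simp [one_mem, ms, mt, mv, mul_mem ms mt]
  have hle := Finset.card_le_card hsub
  rw [← Fintype.card_subtype, ← Nat.card_eq_fintype_card, h.two T, h4] at hle
  have hst1 : s * t ≠ 1 := fun e => hne (by rw [eq_inv_of_mul_eq_one_left e, ht.inv_eq])
  rw [Finset.card_insert_of_notMem (by simp [Ne.symm hs.2, Ne.symm ht.2, Ne.symm hst1, Ne.symm hv.2]),
    Finset.card_insert_of_notMem (by simp [hne, ht.2, Ne.symm hno.1]),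
    Finset.card_insert_of_notMem (by simp [hs.2, Ne.symm hno.2.1]),
    Finset.card_insert_of_notMem (by simp [Ne.symm hno.2.2]), Finset.card_singleton] at hle
  omega

theorem caseTwo (hQ : Pair p Q x) (h : Hyp G p) (hZ : CentralBelow G p)
    (hbad : ∃ t ∈ (Q : Subgroup G), t ≠ 1 ∧ ∃ y, Pel p y ∧ Commute y t ∧
      y ∉ centralizer ((Q : Subgroup G) : Set G)) : False := by
  classical
  haveI := Fintype.ofFinite G
  haveI := Fact.mk Nat.prime_two
  obtain ⟨h4, hcen⟩ := hQ.exists_center_involution h hZ hbad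
  rw [h.two Q] at h4
  -- a non-central inverted `p`-element centralizes exactly one involution
  have huniq : ∀ w : G, Pel p w → w ∉ center G → ∃! v : G, Inv' v ∧ Commute v w := by
    intro w hw hwc
    obtain ⟨s, hs, hs1⟩ := hQ.exists_ne_one h
    obtain ⟨P, -, -, hPv, -⟩ := hcen s (hQ.inv_of_mem h hs hs1)
    obtain ⟨P₁, hP₁⟩ := hw.isPGroup.exists_le_sylow
    obtain ⟨g, rfl⟩ := MulAction.exists_smul_eq G P P₁
    set e := g * s * g⁻¹
    have he : Inv' e := (hQ.inv_of_mem h hs hs1).conj g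
    have heP : ∀ a ∈ ((g • P : Sylow p G) : Subgroup G), Commute a e := fun a ha => by
      have ha' : g⁻¹ * a * g ∈ (P : Subgroup G) := by
        have h0 : a ∈ MulAut.conj g • (P : Subgroup G) := ha
        rw [mem_pointwise_smul_iff_inv_smul_mem, ← map_inv, MulAut.smul_def, MulAut.conj_apply,
          inv_inv] at h0
        exact h0
      have := (commute_conj_iff g _ _).mpr (hPv _ ha')
      simpa [e, mul_assoc] using this
    have hew : Commute e w := (heP w (hP₁ (mem_zpowers w))).symm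
    refine ⟨e, ⟨he, hew⟩, fun v ⟨hv, hvw⟩ => ?_⟩
    set C := centralizer ({w} : Set G) with hC
    have heC : e ∈ C := mem_centralizer_one.mpr hew
    have hvC : v ∈ C := mem_centralizer_one.mpr hvw
    have hno : ∀ U : Subgroup G, IsPGroup 2 U → U ≤ C → Nat.card U < 4 := fun U hU hUC => by
      by_contra hge
      obtain ⟨T, hT⟩ := h.sylow_eq hU (by omega)
      obtain ⟨g', rfl⟩ := MulAction.exists_smul_eq G Q T
      exact no_sylow_le hZ (hQ.smul g') hw hwc (hT ▸ hUC)
    have h2 : 2 ∣ Nat.card C := by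
      have h1 : orderOf (⟨e, heC⟩ : C) = 2 :=
        orderOf_eq_prime (Subtype.ext (by simp [sq, he.1])) (fun e' => he.2 (congrArg Subtype.val e'))
      rw [← h1]
      exact orderOf_dvd_natCard _
    obtain ⟨S, hSC, -, hS, hmem, j, hj⟩ := exists_complement h.mix h.dvd h.ne_two h2
      (noAction_centralizer h hZ hw hwc)
    have hSP : S = ((g • P : Sylow p G) : Subgroup G) := (g • P).is_maximal' hS fun a ha =>
      hmem a (mem_centralizer_one.mpr (h.ab _ (g • P).isPGroup' a ha w (hP₁ (mem_zpowers w))))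
        (Pel.of_mem (g • P).isPGroup' ha)
    have hj1 : j ≤ 1 := by
      by_contra hj2
      obtain ⟨U, hU⟩ := Sylow.exists_subgroup_card_pow_prime (G := C) 2
        (n := 2) ((pow_dvd_pow 2 (by omega : 2 ≤ j)).trans (hj ▸ dvd_mul_left _ _))
      have := hno (U.map C.subtype) ((IsPGroup.of_card hU).map _) (map_subtype_le U)
      rw [card_map_of_injective C.subtype_injective, hU] at this
      omega
    set M := C ⊓ centralizer ({e} : Set G)
    have hMC : M = C := by
      refine Subgroup.eq_of_le_of_card_ge inf_le_left ?_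
      have d1 : Nat.card S ∣ Nat.card M := card_dvd_of_le (le_inf hSC fun a ha =>
        mem_centralizer_one.mpr (heP a (hSP ▸ ha)))
      have d2 : 2 ∣ Nat.card M := by
        have h1 : orderOf (⟨e, heC, mem_centralizer_one.mpr (Commute.refl e)⟩ : M) = 2 :=
          orderOf_eq_prime (Subtype.ext (by simp [sq, he.1]))
            (fun e' => he.2 (congrArg Subtype.val e'))
        rw [← h1]
        exact orderOf_dvd_natCard _
      have hcop : (Nat.card S).Coprime 2 := by
        obtain ⟨k, hk⟩ := IsPGroup.iff_card.mp hS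
        rw [hk]
        exact ((Nat.coprime_primes hp.out Nat.prime_two).mpr h.ne_two).pow_left k
      refine le_trans ?_ (Nat.le_of_dvd Nat.card_pos (hcop.mul_dvd_of_dvd_of_dvd d1 d2))
      rw [hj]
      exact Nat.mul_le_mul_left _ (le_trans (Nat.pow_le_pow_right two_pos hj1) le_rfl)
    have hve : Commute v e :=
      mem_centralizer_one.mp ((hMC.symm ▸ hvC : v ∈ M)).2
    by_contra hne
    have hU : IsPGroup 2 (zpowers v ⊔ zpowers e : Subgroup G) :=
      (isPGroup_zpowers hv).to_sup_of_normal_right' (isPGroup_zpowers he)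
        ((zpowers_le.mpr (mem_centralizer_sub.mpr fun a ha => by
          obtain ⟨i, rfl⟩ := mem_zpowers_iff.mp ha
          exact hve.zpow_right i)).trans (Subgroup.centralizer_le_normalizer _))
    have hlt := hno _ hU (sup_le (zpowers_le.mpr hvC) (zpowers_le.mpr heC))
    have hsub : ({1, e, v, e * v} : Finset G) ⊆
        Finset.univ.filter (fun a => a ∈ (zpowers v ⊔ zpowers e : Subgroup G)) := by
      have me : e ∈ (zpowers v ⊔ zpowers e : Subgroup G) := mem_sup_right (mem_zpowers e)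
      have mv : v ∈ (zpowers v ⊔ zpowers e : Subgroup G) := mem_sup_left (mem_zpowers v)
      intro a ha
      simp only [Finset.mem_insert, Finset.mem_singleton] at ha
      rcases ha with rfl | rfl | rfl | rfl <;> simp [one_mem, me, mv, mul_mem me mv]
    have hle := Finset.card_le_card hsub
    have hev1 : e * v ≠ 1 := fun e' => hne (by
      rw [eq_inv_of_mul_eq_one_right e', he.inv_eq])
    rw [← Fintype.card_subtype, ← Nat.card_eq_fintype_card,
      Finset.card_insert_of_notMem (by simp [Ne.symm he.2, Ne.symm hv.2, Ne.symm hev1]),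
      Finset.card_insert_of_notMem (by simp [Ne.symm hne, hv.2]),
      Finset.card_insert_of_notMem (by simp [he.2]), Finset.card_singleton] at hle
    omega
  -- the commuting graph of the involutions
  let V := {v : G // Inv' v}
  let R : V → V → Prop := fun a b => Commute (a : G) (b : G) ∧ a ≠ b
  obtain ⟨s₀, hs₀, hs₀1⟩ := hQ.exists_ne_one h
  set a₀ : V := ⟨s₀, hQ.inv_of_mem h hs₀ hs₀1⟩
  haveI : Nonempty V := ⟨a₀⟩
  set k := (Finset.univ.filter (R a₀)).card with hk
  have hle2 : k ≤ 2 := by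
    refine friendship_regular R (fun a b hab => ⟨hab.1.symm, hab.2.symm⟩) (fun a ha => ha.2 rfl) k
      (fun a => ?_) (fun a b hab => ?_)
    · obtain ⟨g, hg⟩ := hQ.inv_conj h hs₀ hs₀1 a.2
      refine (Finset.card_bij' (fun (v : V) _ => (⟨g * (v : G) * g⁻¹, v.2.conj g⟩ : V))
        (fun (v : V) _ => (⟨g⁻¹ * (v : G) * g⁻¹⁻¹, v.2.conj g⁻¹⟩ : V)) ?_ ?_ ?_ ?_).symm
      · intro v hv
        simp only [Finset.mem_filter, Finset.mem_univ, true_and] at hv ⊢
        refine ⟨?_, fun e => hv.2 (Subtype.ext ?_)⟩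
        · show Commute (a : G) (g * v * g⁻¹)
          rw [← hg, commute_conj_iff]
          exact hv.1
        · have e' : g * s₀ * g⁻¹ = g * (v : G) * g⁻¹ := hg.trans (congrArg Subtype.val e)
          exact mul_left_cancel (mul_right_cancel e')
      · intro v hv
        simp only [Finset.mem_filter, Finset.mem_univ, true_and] at hv ⊢
        refine ⟨?_, fun e => hv.2 (Subtype.ext ?_)⟩
        · show Commute s₀ (g⁻¹ * v * g⁻¹⁻¹)
          rw [← commute_conj_iff g, hg]
          simpa [mul_assoc] using hv.1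
        · have e' : s₀ = g⁻¹ * (v : G) * g⁻¹⁻¹ := congrArg Subtype.val e
          rw [← hg, e']; group
      · intro v _; exact Subtype.ext (by group)
      · intro v _; exact Subtype.ext (by group)
    · obtain ⟨s, hs⟩ := a
      obtain ⟨t, ht⟩ := b
      have hne : s ≠ t := fun e => hab (Subtype.ext e)
      rw [Finset.card_eq_one]
      by_cases hst : Commute s t
      · have hi : Inv' (s * t) := ⟨by
          rw [show s * t * (s * t) = s * (t * s) * t by group, ← hst.eq,
            show s * (s * t) * t = (s * s) * (t * t) by group, hs.1, ht.1, one_mul],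
          fun e => hne (by rw [eq_inv_of_mul_eq_one_left e, ht.inv_eq])⟩
        refine ⟨⟨s * t, hi⟩, Finset.eq_singleton_iff_unique_mem.mpr ⟨?_, ?_⟩⟩
        · simp only [Finset.mem_filter, Finset.mem_univ, true_and]
          refine ⟨⟨(Commute.refl s).mul_right hst, fun e => ht.2 ?_⟩,
            (hst.mul_left (Commute.refl t)), fun e => hs.2 ?_⟩
          · exact (mul_eq_left.mp (congrArg Subtype.val e).symm)
          · exact (mul_eq_right.mp (congrArg Subtype.val e))
        · intro v hv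
          simp only [Finset.mem_filter, Finset.mem_univ, true_and] at hv
          obtain ⟨⟨h1, h1'⟩, h2, h2'⟩ := hv
          rcases commuting_unique h h4 hs ht v.2 hst hne h1.symm h2 with e | e | e
          · exact absurd (Subtype.ext e.symm) h1'
          · exact absurd (Subtype.ext e) h2'
          · exact Subtype.ext e
      · have hex : ∃ v, Inv' v ∧ Commute v s ∧ Commute v t ∧
            ∀ v', Inv' v' → Commute v' s → Commute v' t → v' = v := by
          rcases product_cases h hs ht with hw | ⟨v, hv, hvs, hvt, hvw⟩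
          · have hw1 : s * t ≠ 1 := fun e =>
              hne (by rw [eq_inv_of_mul_eq_one_left e, ht.inv_eq])
            have hinv := inverts_of_product hs ht
            have hwc : s * t ∉ center G := fun e =>
              not_commute_inverter h.ne_two hw hw1 hinv (mem_center_iff.mp e s)
            obtain ⟨v, ⟨hv, hvw⟩, huv⟩ := huniq _ hw hwc
            have hvs : Commute v s := by
              have h1 : s * v * s⁻¹ = v := huv _ ⟨hv.conj s, by
                have := (commute_conj_iff s v (s * t)).mpr hvw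
                rwa [hinv, Commute.inv_right_iff] at this⟩
              exact (commute_of_conj_eq h1).symm
            refine ⟨v, hv, hvs, ?_, fun v' hv' h1 h2 => huv v' ⟨hv', h1.mul_right h2⟩⟩
            have := hvs.mul_right hvw
            rwa [← mul_assoc, hs.1, one_mul] at this
          · refine ⟨v, hv, hvs, hvt, fun v' hv' h1 h2 => ?_⟩
            by_contra hne'
            have hvv : Commute v' v := by
              obtain ⟨i, rfl⟩ := mem_zpowers_iff.mp hvw
              exact (h1.mul_right h2).zpow_right i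
            rcases commuting_unique h h4 hv' hv hs hvv hne' h1.symm hvs.symm with e | e | e
            · exact hst (e ▸ h2)
            · exact hst (e ▸ hvt)
            · exact hst (e ▸ h2.mul_left hvt)
        obtain ⟨v, hv, hvs, hvt, huv⟩ := hex
        refine ⟨⟨v, hv⟩, Finset.eq_singleton_iff_unique_mem.mpr ⟨?_, ?_⟩⟩
        · simp only [Finset.mem_filter, Finset.mem_univ, true_and]
          refine ⟨⟨hvs.symm, fun e => ?_⟩, hvt, fun e => ?_⟩
          · have e' : s = v := congrArg Subtype.val e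
            subst e'; exact hst hvt
          · have e' : v = t := congrArg Subtype.val e
            subst e'; exact hst hvs.symm
        · intro v' hv'
          simp only [Finset.mem_filter, Finset.mem_univ, true_and] at hv'
          exact Subtype.ext (huv v' v'.2 hv'.1.1.symm hv'.2.1)
  obtain ⟨P, w, r, hPv, hwP, hw, hw1, hr, hrs, hrw⟩ := hcen s₀ a₀.2
  have hws : Commute w s₀ := hPv w hwP
  have hrw' : ¬ Commute r w := not_commute_inverter h.ne_two hw hw1 hrw
  have hne_rs : r ≠ s₀ := fun e => hrw' (e ▸ hws.symm)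
  have hi2 : Inv' (r * s₀) := ⟨by
    rw [show r * s₀ * (r * s₀) = r * (s₀ * r) * s₀ by group, ← hrs.eq,
      show r * (r * s₀) * s₀ = (r * r) * (s₀ * s₀) by group, hr.1, a₀.2.1, one_mul],
    fun e => hne_rs (by rw [eq_inv_of_mul_eq_one_left e, a₀.2.inv_eq])⟩
  set r₃ := w * r * w⁻¹ with hr₃
  have hi3 : Inv' r₃ := hr.conj w
  have hr₃eq : r₃ = w * w * r := by
    have hwr : r * w⁻¹ = w * r := by
      have h1 : r * w⁻¹ * r⁻¹ = w := by rw [← conj_inv, hrw, inv_inv]
      exact mul_inv_eq_iff_eq_mul.mp h1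
    rw [hr₃, mul_assoc, hwr, ← mul_assoc]
  have h12 : (⟨r, hr⟩ : V) ≠ ⟨r * s₀, hi2⟩ := fun e => a₀.2.2
    (mul_eq_left.mp (congrArg Subtype.val e).symm)
  have h13 : (⟨r, hr⟩ : V) ≠ ⟨r₃, hi3⟩ := fun e => hw1 (hw.eq_one_of_sq h.ne_two (by
    have : r = w * w * r := (congrArg Subtype.val e).trans hr₃eq
    exact mul_eq_right.mp this.symm))
  have h23 : (⟨r * s₀, hi2⟩ : V) ≠ ⟨r₃, hi3⟩ := fun e => by
    have h1 : s₀ * r = w * w * r := hrs.eq ▸ (congrArg Subtype.val e).trans hr₃eq
    have h2 : s₀ = w * w := mul_right_cancel h1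
    have hw2 : Pel p (w * w) := Pel.of_mem P.isPGroup' (mul_mem hwP hwP)
    exact hw2.not_inv h.ne_two (h2 ▸ a₀.2)
  have hsub : ({⟨r, hr⟩, ⟨r * s₀, hi2⟩, ⟨r₃, hi3⟩} : Finset V) ⊆ Finset.univ.filter (R a₀) := by
    intro v hv
    simp only [Finset.mem_insert, Finset.mem_singleton] at hv
    simp only [Finset.mem_filter, Finset.mem_univ, true_and]
    rcases hv with rfl | rfl | rfl
    · exact ⟨hrs.symm, fun e => hne_rs (congrArg Subtype.val e).symm⟩
    · exact ⟨hrs.symm.mul_right (Commute.refl s₀),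
        fun e => hr.2 (mul_eq_right.mp (congrArg Subtype.val e).symm)⟩
    · refine ⟨(hws.symm.mul_right hrs.symm).mul_right hws.symm.inv_right, fun e => ?_⟩
      have e' : s₀ = w * r * w⁻¹ := congrArg Subtype.val e
      apply hne_rs
      rw [show r = w⁻¹ * (w * r * w⁻¹) * w by group, ← e', mul_assoc, ← hws.eq, inv_mul_cancel_left]
  have h3 := Finset.card_le_card hsub
  rw [Finset.card_insert_of_notMem (by simp [h12, h13]),
    Finset.card_insert_of_notMem (by simp [h23]), Finset.card_singleton, ← hk] at h3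
  omega

end CfsgLib.MixedPrimes
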