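import Cfsg.Agent.FGSA.MixedPrimes.Basic

/-!
Mixed subgroups: `p`-elements centralizing a moved Sylow 2-subgroup.
-/

set_option autoImplicit false
set_option linter.unusedSectionVars false
set_option linter.style.haveILetI false
set_option linter.deprecated false

namespace CfsgLib.MixedPrimes

open Subgroup Pointwise

variable {G : Type*} [Group G] [Finite G] {p : ℕ} [hp : Fact p.Prime]

/-- The induction hypothesis: in proper subgroups moved Sylow 2-subgroups are normal. -/
def NormalBelow (G : Type*) [Group G] (p : ℕ) : Prop :=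
  ∀ H : Subgroup G, H ≠ ⊤ → Hyp H p →
    ∀ (T : Sylow 2 H) (y : H), Pair p T y → (T : Subgroup H).Normal

/-- `p`-elements centralizing an involution of a moved Sylow 2-subgroup centralize all of it. -/
def NoMove (G : Type*) [Group G] (p : ℕ) : Prop :=
  ∀ (Q : Sylow 2 G) (x : G), Pair p Q x → ∀ t ∈ (Q : Subgroup G), t ≠ 1 →
    ∀ y : G, Pel p y → Commute y t → y ∈ centralizer ((Q : Subgroup G) : Set G)

theorem Pair.exists_ne_one {Q : Sylow 2 G} {x : G} (_hQ : Pair p Q x) (h : Hyp G p) :
    ∃ s ∈ (Q : Subgroup G), s ≠ 1 := by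
  haveI : Nontrivial (Q : Subgroup G) := by
    rw [← Finite.one_lt_card_iff_nontrivial, h.two Q]
    have := hp.out.pos
    omega
  obtain ⟨s, hs⟩ := exists_ne (1 : (Q : Subgroup G))
  exact ⟨s, s.2, fun e => hs (Subtype.ext e)⟩

theorem Pair.centralizer_le {Q : Sylow 2 G} {x : G} (hQ : Pair p Q x) (h : Hyp G p)
    (ih : NormalBelow G p) {z : G} (hz : Pel p z)
    (hzQ : z ∈ centralizer ((Q : Subgroup G) : Set G)) (hzc : z ∉ center G) :
    centralizer ({z} : Set G) ≤ normalizer ((Q : Subgroup G) : Set G) := by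
  obtain ⟨s, hs, hs1⟩ := hQ.exists_ne_one h
  obtain ⟨K, -, -, hK, hKmem, -⟩ := h.centralizer_split (hQ.inv_of_mem h hs hs1)
  set L : Subgroup G := K ⊓ centralizer ((Q : Subgroup G) : Set G)
  have hL : ∀ y ∈ L, x * y * x⁻¹ ∈ L := by
    intro y hy
    have hyQ : x * y * x⁻¹ ∈ centralizer ((Q : Subgroup G) : Set G) := by
      rw [mem_centralizer_sub]
      intro r hr
      have h1 : x⁻¹ * r * x ∈ (Q : Subgroup G) := by
        simpa using (mem_normalizer_iff.mp (inv_mem hQ.norm) r).mp hr
      have h2 := (commute_conj_iff x _ _).mpr (mem_centralizer_sub.mp hy.2 _ h1)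
      simpa [mul_assoc] using h2
    exact ⟨hKmem _ (mem_centralizer_sub.mp hyQ s hs) ((Pel.of_mem hK hy.1).conj x), hyQ⟩
  have hxL : x ∈ normalizer (L : Set G) := mem_normalizer_fintype hL
  have hxz : Commute x z := h.ab _
    (hQ.pel.isPGroup.to_sup_of_normal_right' (hK.to_le inf_le_left) (zpowers_le.mpr hxL))
    x (mem_sup_left (mem_zpowers x)) z
    (mem_sup_right ⟨hKmem z (mem_centralizer_sub.mp hzQ s hs) hz, hzQ⟩)
  set H := centralizer ({z} : Set G) with hH
  have hQH : (Q : Subgroup G) ≤ H := fun r hr =>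
    mem_centralizer_one.mpr (mem_centralizer_sub.mp hzQ r hr).symm
  have hHtop : H ≠ ⊤ := fun e => hzc (mem_center_iff.mpr fun g =>
    (mem_centralizer_one.mp (e ▸ mem_top g : g ∈ H)).eq)
  have hzH : z ∈ H := mem_centralizer_one.mpr (Commute.refl z)
  have hHyp : Hyp H p := by
    refine ⟨h.ne_two, fun A hA hnp hd => ?_, ?_, fun T => ?_, fun S hS a ha b hb => ?_⟩
    · rw [← card_map_of_injective H.subtype_injective]
      refine h.mix _ (fun e => hHtop (top_le_iff.mp (e ▸ map_subtype_le A))) (fun e => hnp ?_)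
        (by rwa [card_map_of_injective H.subtype_injective])
      exact e.of_equiv (A.equivMapOfInjective _ H.subtype_injective).symm
    · have hz1 : z ≠ 1 := fun e => hzc (e ▸ one_mem _)
      obtain ⟨k, hk⟩ := IsPGroup.iff_card.mp hz.isPGroup
      have hk0 : k ≠ 0 := by
        rintro rfl
        rw [pow_zero, Subgroup.card_eq_one] at hk
        exact hz1 (zpowers_eq_bot.mp hk)
      calc p ∣ p ^ k := dvd_pow_self p hk0
        _ = Nat.card (zpowers z) := hk.symm
        _ ∣ Nat.card H := card_dvd_of_le (zpowers_le.mpr hzH)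
    · haveI := Fact.mk Nat.prime_two
      rw [T.card_eq_multiplicity, ← (Q.subtype hQH).card_eq_multiplicity, ← h.two Q]
      exact Nat.card_congr (subgroupOfEquivOfLe hQH).toEquiv
    · have := h.ab _ (hS.map H.subtype) a (mem_map_of_mem _ ha) b (mem_map_of_mem _ hb)
      exact Subtype.ext this
  have hxH : x ∈ H := mem_centralizer_one.mpr hxz
  have hpair : Pair p (Q.subtype hQH) (⟨x, hxH⟩ : H) := by
    refine ⟨?_, mem_normalizer_iff.mpr fun r => ?_, fun hc => hQ.move ?_⟩
    · obtain ⟨k, hk⟩ := hQ.pel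
      exact ⟨k, Subtype.ext hk⟩
    · rw [Sylow.coe_subtype, mem_subgroupOf, mem_subgroupOf]
      exact mem_normalizer_iff.mp hQ.norm _
    · rw [mem_centralizer_sub] at hc ⊢
      intro r hr
      have := hc ⟨r, hQH hr⟩ (by rw [Sylow.coe_subtype, mem_subgroupOf]; exact hr)
      exact congrArg Subtype.val this
  have hN := ih H hHtop hHyp _ _ hpair
  rw [Sylow.coe_subtype] at hN
  exact (normal_subgroupOf_iff_le_normalizer hQH).mp hN

theorem Pair.noMove_of_noncentral {Q : Sylow 2 G} {x : G} (hQ : Pair p Q x) (h : Hyp G p)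
    (ih : NormalBelow G p) {z : G} (hz : Pel p z)
    (hzQ : z ∈ centralizer ((Q : Subgroup G) : Set G)) (hzc : z ∉ center G) : NoMove G p := by
  intro T y hT t ht ht1 a ha hat
  haveI := Fact.mk Nat.prime_two
  obtain ⟨g, rfl⟩ := MulAction.exists_smul_eq G Q T
  have hz' : g * z * g⁻¹ ∈ centralizer (((g • Q : Sylow 2 G) : Subgroup G) : Set G) := by
    rw [mem_centralizer_sub] at hzQ ⊢
    intro r hr
    have := (commute_conj_iff g _ _).mpr (hzQ _ (mem_smul_sylow.mp hr))
    simpa [mul_assoc] using this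
  have hzc' : g * z * g⁻¹ ∉ center G := fun e => hzc (by
    have := (inferInstance : (center G).Normal).conj_mem _ e g⁻¹
    simpa [mul_assoc] using this)
  have hle := hT.centralizer_le h ih (hz.conj g) hz' hzc'
  refine hT.fixed h ha (hle (mem_centralizer_one.mpr ?_)) ht ht1 hat
  exact h.pel_commute (hT.inv_of_mem h ht ht1) ha (hz.conj g) hat
    (mem_centralizer_sub.mp hz' t ht)

theorem noMove_or_central (h : Hyp G p) (ih : NormalBelow G p) :
    NoMove G p ∨ ∀ (Q : Sylow 2 G) (x : G), Pair p Q x → ∀ z : G, Pel p z →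
      z ∈ centralizer ((Q : Subgroup G) : Set G) → z ∈ center G := by
  refine or_iff_not_imp_left.mpr fun hn Q x hQ z hz hzQ => by_contra fun hzc => hn ?_
  exact hQ.noMove_of_noncentral h ih hz hzQ hzc

end CfsgLib.MixedPrimes
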