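import Mathlib
import Cfsg.Agent.Transfer.Frobenius
import Cfsg.Agent.Solvable.CoprimeAct

/-!
Groups in which every proper subgroup of order divisible by `q` that is not a `q`-group has order
divisible by `p`: the local structure.
-/

set_option autoImplicit false
set_option linter.unusedSectionVars false
set_option linter.style.haveILetI false
set_option linter.deprecated false

namespace CfsgLib.MixedPrimes

open Subgroup Pointwise

variable {G : Type*} [Group G] {p q : ℕ}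

/-- `g` is a `p`-element. -/
def Pel (p : ℕ) (g : G) : Prop := ∃ k : ℕ, g ^ p ^ k = 1

theorem Pel.conj {g : G} (h : Pel p g) (a : G) : Pel p (a * g * a⁻¹) := by
  obtain ⟨k, hk⟩ := h
  exact ⟨k, by rw [conj_pow, hk]; simp⟩

theorem Pel.of_mem {S : Subgroup G} (hS : IsPGroup p S) {g : G} (hg : g ∈ S) : Pel p g := by
  obtain ⟨k, hk⟩ := hS ⟨g, hg⟩
  exact ⟨k, congrArg Subtype.val hk⟩

theorem Pel.inv {g : G} (h : Pel p g) : Pel p g⁻¹ := by
  obtain ⟨k, hk⟩ := h
  exact ⟨k, by rw [inv_pow, hk, inv_one]⟩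

theorem Pel.isPGroup [Fact p.Prime] {g : G} (h : Pel p g) : IsPGroup p (zpowers g) := by
  obtain ⟨k, hk⟩ := h
  obtain ⟨j, -, hj⟩ :=
    (Nat.dvd_prime_pow (Fact.out : p.Prime)).mp (orderOf_dvd_of_pow_eq_one hk)
  exact IsPGroup.of_card (n := j) (by rw [Nat.card_zpowers, hj])

theorem pel_iff_orderOf [Fact p.Prime] [Finite G] {g : G} :
    Pel p g ↔ ∀ r : ℕ, r.Prime → r ∣ orderOf g → r = p := by
  constructor
  · rintro ⟨k, hk⟩ r hr hrd
    exact (Nat.prime_dvd_prime_iff_eq hr Fact.out).mp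
      (hr.dvd_of_dvd_pow (hrd.trans (orderOf_dvd_of_pow_eq_one hk)))
  · intro h
    refine ⟨(orderOf g).primeFactorsList.length, ?_⟩
    conv_lhs => rw [← Nat.eq_prime_pow_of_unique_prime_dvd (orderOf_pos g).ne' (fun {r} hr hrd => h r hr hrd)]
    exact pow_orderOf_eq_one g

/-- A `p`-element normalizing a Sylow `p`-subgroup lies in it. -/
theorem Pel.mem_sylow [Fact p.Prime] [Finite G] {g : G} (h : Pel p g) (P : Sylow p G)
    (hg : g ∈ normalizer ((P : Subgroup G) : Set G)) : g ∈ (P : Subgroup G) := by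
  have h1 : IsPGroup p (zpowers g ⊔ (P : Subgroup G) : Subgroup G) :=
    h.isPGroup.to_sup_of_normal_right' P.isPGroup' (zpowers_le.mpr hg)
  rw [← P.is_maximal' h1 le_sup_right]
  exact mem_sup_left (mem_zpowers g)

/-- Every proper subgroup of mixed order has order divisible by `p`. -/
def Mixed (G : Type*) [Group G] (p q : ℕ) : Prop :=
  ∀ H : Subgroup G, H ≠ ⊤ → ¬ IsPGroup q H → q ∣ Nat.card H → p ∣ Nat.card H

variable [Finite G] [hp : Fact p.Prime] [hq : Fact q.Prime]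

theorem not_mixed_pair (hmix : Mixed G p q) (hpG : p ∣ Nat.card G) (hpq : p ≠ q) {U R : Subgroup G}
    (hU : IsPGroup q U) (hU1 : U ≠ ⊥) {r : ℕ} [hr : Fact r.Prime] (hrp : r ≠ p) (hrq : r ≠ q)
    (hR : IsPGroup r R) (hR1 : R ≠ ⊥)
    (hn : R ≤ normalizer (U : Set G) ∨ U ≤ normalizer (R : Set G)) : False := by
  obtain ⟨i, hi⟩ := IsPGroup.iff_card.mp hU
  obtain ⟨j, hj⟩ := IsPGroup.iff_card.mp hR
  have hdisj : Disjoint U R := by
    rw [disjoint_iff]
    refine inf_eq_bot_of_coprime ?_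
    rw [hi, hj]
    exact Nat.Coprime.pow _ _ ((Nat.coprime_primes hq.out hr.out).mpr (Ne.symm hrq))
  have hcard : Nat.card (U ⊔ R : Subgroup G) = Nat.card U * Nat.card R := by
    have key : ∀ A B : Subgroup G, A ≤ normalizer (B : Set G) → Disjoint A B →
        Nat.card (A ⊔ B : Subgroup G) = Nat.card A * Nat.card B := by
      intro A B hAB hd
      rw [← Nat.card_prod]
      refine (Nat.card_congr (Equiv.ofBijective
        (fun x : A × B => (⟨(x.1 : G) * x.2, mul_mem (mem_sup_left x.1.2) (mem_sup_right x.2.2)⟩ :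
          (A ⊔ B : Subgroup G))) ⟨?_, ?_⟩)).symm
      · intro x y hxy
        exact Subgroup.mul_injective_of_disjoint hd (congrArg Subtype.val hxy)
      · rintro ⟨z, hz⟩
        have : z ∈ ((A ⊔ B : Subgroup G) : Set G) := hz
        rw [coe_mul_of_left_le_normalizer_right A B hAB] at this
        obtain ⟨a, ha, b, hb, rfl⟩ := this
        exact ⟨(⟨a, ha⟩, ⟨b, hb⟩), rfl⟩
    rcases hn with h | h
    · rw [sup_comm, key R U h hdisj.symm, mul_comm]
    · exact key U R h hdisj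
  have hp' : ¬ p ∣ Nat.card (U ⊔ R : Subgroup G) := by
    rw [hcard, hi, hj]
    intro h
    rcases (Nat.Prime.dvd_mul hp.out).mp h with h | h
    · exact hpq ((Nat.prime_dvd_prime_iff_eq hp.out hq.out).mp (hp.out.dvd_of_dvd_pow h))
    · exact hrp ((Nat.prime_dvd_prime_iff_eq hp.out hr.out).mp (hp.out.dvd_of_dvd_pow h)).symm
  have htop : (U ⊔ R : Subgroup G) ≠ ⊤ := fun h => hp' (by rw [h, Subgroup.card_top]; exact hpG)
  refine hp' (hmix _ htop (fun hq' => ?_) ?_)
  · apply hR1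
    rw [eq_bot_iff]
    intro x hx
    have h1 := hq'.to_le (le_sup_right : R ≤ U ⊔ R)
    have hd : Disjoint R R := IsPGroup.disjoint_of_ne r q hrq R R hR h1
    exact (disjoint_self.mp hd) ▸ hx
  · rw [hcard, hi]
    refine Dvd.dvd.mul_right (dvd_pow_self q ?_) _
    rintro rfl
    exact hU1 (Subgroup.card_eq_one.mp (by rw [hi, pow_zero]))

theorem normalizer_elements (hmix : Mixed G p q) (hpG : p ∣ Nat.card G) (hpq : p ≠ q)
    {U : Subgroup G} (hU : IsPGroup q U) (hU1 : U ≠ ⊥) {g : G}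
    (hg : g ∈ normalizer (U : Set G)) {r : ℕ} (hr : r.Prime) (hrg : r ∣ orderOf g) :
    r = p ∨ r = q := by
  by_contra hne
  push_neg at hne
  haveI := Fact.mk hr
  have ho : orderOf (g ^ (orderOf g / r)) = r := orderOf_pow_orderOf_div (orderOf_pos g).ne' hrg
  refine not_mixed_pair hmix hpG hpq hU hU1 hne.1 hne.2
    (IsPGroup.of_card (p := r) (n := 1) (by rw [Nat.card_zpowers, ho, pow_one]))
    (fun h => hr.ne_one ?_) (Or.inl (zpowers_le.mpr (pow_mem hg _)))
  rw [← ho, orderOf_eq_one_iff]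
  exact zpowers_eq_bot.mp h

/-- An invariant Sylow subgroup of a normalized subgroup of order prime to `q` forces `p`-power order. -/
theorem isPGroup_of_normalized (hmix : Mixed G p q) (hpG : p ∣ Nat.card G) (hpq : p ≠ q)
    {U N : Subgroup G} (hU : IsPGroup q U) (hU1 : U ≠ ⊥) (hUN : U ≤ normalizer (N : Set G))
    (hN : ¬ q ∣ Nat.card N) : IsPGroup p N := by
  refine IsPGroup.of_card (n := (Nat.card N).primeFactorsList.length)
    (Nat.eq_prime_pow_of_unique_prime_dvd Nat.card_pos.ne' fun {r} hr hrd => ?_)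
  by_contra hrp
  haveI := Fact.mk hr
  have hrq : r ≠ q := fun h => hN (h ▸ hrd)
  obtain ⟨i, hi⟩ := IsPGroup.iff_card.mp hU
  have hcop : (Nat.card U).Coprime (Nat.card N) := by
    rw [hi]
    exact ((Nat.Prime.coprime_iff_not_dvd hq.out).mpr hN).pow_left _
  haveI : Group.IsNilpotent U := hU.isNilpotent
  obtain ⟨R, hR⟩ := CoprimeAct.exists_invariant_sylow hUN hcop (Or.inl inferInstance) r
  refine not_mixed_pair hmix hpG hpq hU hU1 hrp hrq (R.isPGroup'.map N.subtype) (fun h => ?_)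
    (Or.inr hR)
  rw [Subgroup.map_eq_bot_iff_of_injective _ N.subtype_injective] at h
  have h2 := R.dvd_card_of_dvd_card hrd
  rw [h, Subgroup.card_bot] at h2
  exact hr.ne_one (Nat.dvd_one.mp h2)

/-- `p`-elements of `M` act trivially on the `q`-subgroups they normalize. -/
def NoAction (p q : ℕ) (M : Subgroup G) : Prop :=
  ∀ U : Subgroup G, U ≤ M → IsPGroup q U → ∀ y ∈ M, Pel p y → y ∈ normalizer (U : Set G) →
    y ∈ centralizer (U : Set G)

theorem exists_complement (hmix : Mixed G p q) (hpG : p ∣ Nat.card G) (hpq : p ≠ q)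
    {M : Subgroup G} (hM : q ∣ Nat.card M) (hact : NoAction p q M) :
    ∃ S : Subgroup G, S ≤ M ∧ M ≤ normalizer (S : Set G) ∧ IsPGroup p S ∧
      (∀ y ∈ M, Pel p y → y ∈ S) ∧ ∃ j : ℕ, Nat.card M = Nat.card S * q ^ j := by
  have hLC : Fusion.LocalCondition q M := by
    intro U hU g hg hgq
    have hUG : IsPGroup q (U.map M.subtype) := hU.map _
    have hgU : (g : G) ∈ normalizer ((U.map M.subtype : Subgroup G) : Set G) := by
      refine mem_normalizer_iff.mpr fun x => ⟨?_, fun hx => ?_⟩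
      · rintro ⟨y, hy, rfl⟩
        exact ⟨g * y * g⁻¹, (mem_normalizer_iff.mp hg y).mp hy, by simp⟩
      · obtain ⟨y, hy, hyx⟩ := hx
        have hy' : g * (g⁻¹ * y * g) * g⁻¹ ∈ U := by simpa [mul_assoc] using hy
        refine ⟨g⁻¹ * y * g, (mem_normalizer_iff.mp hg _).mpr hy', ?_⟩
        have hyx' : (y : G) = (g : G) * x * (g : G)⁻¹ := hyx
        simp [hyx', mul_assoc]
    refine mem_centralizer_iff.mpr fun u hu => ?_
    by_cases hU1 : U = ⊥
    · rw [hU1] at hu
      rw [Subgroup.mem_bot.mp hu, one_mul, mul_one]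
    have hUG1 : U.map M.subtype ≠ ⊥ := fun h =>
      hU1 ((Subgroup.map_eq_bot_iff_of_injective _ M.subtype_injective).mp h)
    have hpel : Pel p (g : G) := pel_iff_orderOf.mpr fun r hr hrd => by
      rcases normalizer_elements hmix hpG hpq hUG hUG1 hgU hr hrd with h | h
      · exact h
      · exfalso
        rw [Subgroup.orderOf_coe] at hrd
        subst h
        exact hr.ne_one (Nat.dvd_one.mp (hgq ▸ Nat.dvd_gcd hrd dvd_rfl))
    have := hact _ (Subgroup.map_subtype_le U) hUG (g : G) g.2 hpel hgU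
    exact Subtype.ext (mem_centralizer_iff.mp this _ ⟨u, hu, rfl⟩)
  obtain ⟨T, N, hNn, hNT⟩ := Fusion.hasNormalPComplement_of_localCondition hLC
  set S := N.map M.subtype with hS
  have hTN := hNT.card_mul_card
  have hNq : ¬ q ∣ Nat.card N := by
    rintro ⟨c, hc⟩
    have h1 := T.card_eq_multiplicity
    have h2 : q ^ ((Nat.card M).factorization q + 1) ∣ Nat.card M := by
      rw [pow_succ, ← h1]
      exact ⟨c, by rw [← hTN, hc]; ring⟩
    exact Nat.pow_succ_factorization_not_dvd Nat.card_pos.ne' hq.out h2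
  have hScard : Nat.card S = Nat.card N := Subgroup.card_map_of_injective M.subtype_injective
  have hTn : (T : Subgroup M).map M.subtype ≤ normalizer (S : Set G) := by
    intro z hz
    obtain ⟨z', -, rfl⟩ := hz
    refine mem_normalizer_iff.mpr fun x => ⟨?_, fun hx => ?_⟩
    · rintro ⟨y, hy, rfl⟩
      exact ⟨z' * y * z'⁻¹, hNn.conj_mem y hy z', by simp⟩
    · obtain ⟨y, hy, hyx⟩ := hx
      have hyx' : (y : G) = (z' : G) * x * (z' : G)⁻¹ := hyx
      refine ⟨z'⁻¹ * y * z'⁻¹⁻¹, hNn.conj_mem y hy _, ?_⟩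
      simp [hyx', mul_assoc]
  have hT1 : (T : Subgroup M).map M.subtype ≠ ⊥ := by
    intro h
    rw [Subgroup.map_eq_bot_iff_of_injective _ M.subtype_injective] at h
    have h2 := T.dvd_card_of_dvd_card hM
    rw [h, Subgroup.card_bot] at h2
    exact hq.out.ne_one (Nat.dvd_one.mp h2)
  have hSp : IsPGroup p S := isPGroup_of_normalized hmix hpG hpq (T.isPGroup'.map _) hT1 hTn
    (by rw [hScard]; exact hNq)
  obtain ⟨j, hj⟩ := IsPGroup.iff_card.mp T.isPGroup'
  refine ⟨S, Subgroup.map_subtype_le N, ?_, hSp, ?_, j, by rw [hScard, ← hTN, hj]⟩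
  · intro z hz
    refine mem_normalizer_iff.mpr fun x => ⟨?_, fun hx => ?_⟩
    · rintro ⟨y, hy, rfl⟩
      exact ⟨⟨z, hz⟩ * y * ⟨z, hz⟩⁻¹, hNn.conj_mem y hy _, by simp⟩
    · obtain ⟨y, hy, hyx⟩ := hx
      have hyx' : (y : G) = z * x * z⁻¹ := hyx
      refine ⟨⟨z, hz⟩⁻¹ * y * ⟨z, hz⟩⁻¹⁻¹, hNn.conj_mem y hy _, ?_⟩
      simp [hyx', mul_assoc]
  · intro y hy hpy
    haveI := hNn
    have hidx : N.index = q ^ j := by
      have := Subgroup.card_mul_index N
      rw [← hj]
      exact Nat.eq_of_mul_eq_mul_left Nat.card_pos (this.trans hTN.symm)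
    obtain ⟨k, hk⟩ := hpy
    have h1 : ((⟨y, hy⟩ : M) : M ⧸ N) ^ p ^ k = 1 := by
      rw [← QuotientGroup.mk_pow]
      have : (⟨y, hy⟩ : M) ^ p ^ k = 1 := Subtype.ext hk
      rw [this]; rfl
    have h2 : orderOf ((⟨y, hy⟩ : M) : M ⧸ N) ∣ 1 := by
      rw [← (Nat.coprime_iff_gcd_eq_one.mp (((Nat.coprime_primes hp.out hq.out).mpr hpq).pow k j))]
      refine Nat.dvd_gcd (orderOf_dvd_of_pow_eq_one h1) ?_
      rw [← hidx]
      exact orderOf_dvd_natCard _
    have h3 := orderOf_eq_one_iff.mp (Nat.dvd_one.mp h2)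
    exact ⟨⟨y, hy⟩, (QuotientGroup.eq_one_iff _).mp h3, rfl⟩

/-- Counting for a `p`-element moving a `q`-subgroup. -/
theorem moved (hpq : p ≠ q) {U : Subgroup G} (hU : IsPGroup q U) {y : G} (hy : Pel p y)
    (hn : y ∈ normalizer (U : Set G)) (hc : y ∉ centralizer (U : Set G)) :
    p < Nat.card U ∧ (Nat.card U = p + 1 →
      (∀ u ∈ U, y * u * y⁻¹ = u → u = 1) ∧
      ∀ u ∈ U, ∀ v ∈ U, u ≠ 1 → v ≠ 1 → ∃ i : ℤ, y ^ i * u * (y ^ i)⁻¹ = v) := by
  classical
  have hz : zpowers y ≤ normalizer (U : Set G) := zpowers_le.mpr hn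
  letI : MulAction (zpowers y) U :=
    { smul := fun a u => ⟨(a : G) * u * (a : G)⁻¹, (mem_normalizer_iff.mp (hz a.2) u).mp u.2⟩
      one_smul := fun u => Subtype.ext (by
        show ((1 : zpowers y) : G) * u * ((1 : zpowers y) : G)⁻¹ = u
        simp)
      mul_smul := fun a b u => Subtype.ext (by
        show ((a * b : zpowers y) : G) * u * ((a * b : zpowers y) : G)⁻¹ =
          (a : G) * ((b : G) * u * (b : G)⁻¹) * (a : G)⁻¹
        simp [mul_assoc]) }
  have hZ : IsPGroup p (zpowers y) := hy.isPGroup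
  obtain ⟨u₀, hu₀, hne⟩ : ∃ u ∈ U, y * u * y⁻¹ ≠ u := by
    by_contra h
    push_neg at h
    refine hc (mem_centralizer_iff.mpr fun u hu => ?_)
    have h1 : y * u * y⁻¹ = u := h u hu
    exact (mul_inv_eq_iff_eq_mul.mp h1).symm
  have horb : ∀ u : U, y * (u : G) * y⁻¹ ≠ u →
      p ≤ (MulAction.orbit (zpowers y) u).ncard ∧ (1 : U) ∉ MulAction.orbit (zpowers y) u := by
    intro u hu
    refine ⟨?_, ?_⟩
    · obtain ⟨k, hk⟩ := hZ.card_orbit u
      rw [← Nat.card_coe_set_eq, hk]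
      rcases Nat.eq_zero_or_pos k with rfl | hk0
      · exfalso
        rw [pow_zero, Nat.card_eq_one_iff_unique] at hk
        haveI := hk.1
        have := Subsingleton.elim
          (⟨(⟨y, mem_zpowers y⟩ : zpowers y) • u, MulAction.mem_orbit _ _⟩ : MulAction.orbit (zpowers y) u)
          ⟨u, MulAction.mem_orbit_self u⟩
        exact hu (congrArg (fun z : MulAction.orbit (zpowers y) u => ((z : U) : G)) this)
      · exact Nat.le_self_pow hk0.ne' p
    · rintro ⟨a, ha⟩
      have h1 : (a : G) * u * (a : G)⁻¹ = 1 := congrArg Subtype.val ha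
      rw [conj_eq_one_iff] at h1
      exact hu (by rw [h1]; simp)
  obtain ⟨hb, hb1⟩ := horb ⟨u₀, hu₀⟩ hne
  have hins : ∀ u : U, (1 : U) ∉ MulAction.orbit (zpowers y) u →
      (MulAction.orbit (zpowers y) u).ncard + 1 ≤ Nat.card U := fun u hu => by
    rw [← Set.ncard_insert_of_notMem hu (Set.toFinite _), ← Set.ncard_univ]
    exact Set.ncard_le_ncard (Set.subset_univ _) (Set.toFinite _)
  refine ⟨by have := hins _ hb1; omega, fun heq => ?_⟩
  have hfull : ∀ v : U, v ≠ 1 → v ∈ MulAction.orbit (zpowers y) (⟨u₀, hu₀⟩ : U) := by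
    intro v hv
    have h1 : insert (1 : U) (MulAction.orbit (zpowers y) (⟨u₀, hu₀⟩ : U)) = Set.univ :=
      Set.eq_of_subset_of_ncard_le (Set.subset_univ _) (by
        rw [Set.ncard_insert_of_notMem hb1 (Set.toFinite _), Set.ncard_univ]; omega) (Set.toFinite _)
    have h2 : v ∈ insert (1 : U) (MulAction.orbit (zpowers y) (⟨u₀, hu₀⟩ : U)) := by
      rw [h1]; trivial
    exact (Set.mem_insert_iff.mp h2).resolve_left hv
  constructor
  · intro u hu hfix
    by_contra hu1
    obtain ⟨a, ha⟩ := hfull ⟨u, hu⟩ (fun h => hu1 (congrArg Subtype.val h))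
    apply hne
    have ha' : (a : G) * u₀ * (a : G)⁻¹ = u := congrArg Subtype.val ha
    obtain ⟨i, hi⟩ := mem_zpowers_iff.mp a.2
    rw [← hi] at ha'
    have hcomm : y * (y ^ i * u₀ * (y ^ i)⁻¹) * y⁻¹ = y ^ i * (y * u₀ * y⁻¹) * (y ^ i)⁻¹ := by
      group
    rw [ha', hfix, ← ha'] at hcomm
    exact (mul_left_cancel (mul_right_cancel hcomm)).symm
  · intro u hu v hv hu1 hv1
    obtain ⟨a, ha⟩ := hfull ⟨u, hu⟩ (fun h => hu1 (congrArg Subtype.val h))
    obtain ⟨b, hb'⟩ := hfull ⟨v, hv⟩ (fun h => hv1 (congrArg Subtype.val h))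
    obtain ⟨i, hi⟩ := mem_zpowers_iff.mp (b * a⁻¹).2
    refine ⟨i, ?_⟩
    rw [hi]
    have h3 : (b * a⁻¹) • (⟨u, hu⟩ : U) = ⟨v, hv⟩ := by
      simp only at ha hb'
      rw [mul_smul, ← ha, inv_smul_smul, hb']
    exact congrArg Subtype.val h3

end CfsgLib.MixedPrimes
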