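import Cfsg.Agent.FGSA.MixedPrimes.CaseOne
import Cfsg.Agent.FGSA.MixedPrimes.CaseTwo

/-!
Groups in which `p` divides the order of every proper mixed subgroup, `p` large.
-/

set_option autoImplicit false
set_option linter.unusedSectionVars false
set_option linter.style.haveILetI false
set_option linter.deprecated false

namespace CfsgLib.MixedPrimes

open Subgroup Pointwise

universe u

theorem normal_of_pair : ∀ (n : ℕ) (G : Type u) [Group G] [Finite G] (p : ℕ) [Fact p.Prime],
    Nat.card G = n → Hyp G p → ∀ (Q : Sylow 2 G) (x : G), Pair p Q x →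
      (Q : Subgroup G).Normal := by
  intro n
  induction n using Nat.strong_induction_on with
  | _ n ih =>
  intro G _ _ p _ hn h Q x hQ
  have hbelow : NormalBelow G p := fun H hH hHyp T y hT =>
    ih (Nat.card H) (hn ▸ lt_of_le_of_ne (Nat.le_of_dvd Nat.card_pos (card_subgroup_dvd_card H))
      (fun e => hH ((Subgroup.card_eq_iff_eq_top H).mp e))) H p rfl hHyp T y hT
  rcases noMove_or_central h hbelow with hI | hZ
  · exact caseOne hQ h hI hbelow
  · by_cases hI : NoMove G p
    · exact caseOne hQ h hI hbelow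
    · exfalso
      simp only [NoMove, not_forall] at hI
      obtain ⟨Q', x', hQ', t, ht, ht1, y, hy, hyt, hyQ⟩ := hI
      exact caseTwo hQ' h hZ ⟨t, ht, ht1, y, hy, hyt, hyQ⟩

theorem two_primes {G : Type u} [Group G] [Finite G] {p q : ℕ} [hp : Fact p.Prime]
    [hq : Fact q.Prime] (hpq : p ≠ q) (hp2 : p ≠ 2) (hpG : p ∣ Nat.card G) (hqG : q ∣ Nat.card G)
    (hmix : Mixed G p q)
    (hlarge : q ^ (Nat.card G).factorization q - 1 < p ∨
      (p = q ^ (Nat.card G).factorization q - 1 ∧
        ∀ S : Subgroup G, IsPGroup p S → ∀ a ∈ S, ∀ b ∈ S, Commute a b)) :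
    ∀ r : ℕ, r.Prime → r ∣ Nat.card G → r = p ∨ r = q := by
  intro r hr hrd
  by_cases hact : NoAction p q (⊤ : Subgroup G)
  · obtain ⟨S, -, -, hS, -, j, hj⟩ := exists_complement hmix hpG hpq (M := ⊤)
      (by rwa [Subgroup.card_top]) hact
    rw [Subgroup.card_top] at hj
    obtain ⟨k, hk⟩ := IsPGroup.iff_card.mp hS
    rw [hj, hk] at hrd
    rcases hr.dvd_mul.mp hrd with h | h
    · exact Or.inl ((Nat.prime_dvd_prime_iff_eq hr hp.out).mp (hr.dvd_of_dvd_pow h))
    · exact Or.inr ((Nat.prime_dvd_prime_iff_eq hr hq.out).mp (hr.dvd_of_dvd_pow h))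
  · simp only [NoAction, not_forall] at hact
    obtain ⟨U, -, hU, y, -, hy, hyn, hyc⟩ := hact
    obtain ⟨hlt, -⟩ := moved hpq hU hy hyn hyc
    obtain ⟨Q, hQ⟩ := hU.exists_le_sylow
    have hle := Subgroup.card_le_of_le hQ
    have hQc := Q.card_eq_multiplicity
    set a := (Nat.card G).factorization q
    rcases hlarge with hlarge | ⟨hpe, hab⟩
    · omega
    obtain rfl : q = 2 := by
      rcases hq.out.eq_two_or_odd' with e | e
      · exact e
      · exfalso
        have h1 : Odd (p + 1) := by
          rw [show p + 1 = q ^ a by omega]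
          exact e.pow
        exact (Nat.not_even_iff_odd.mpr h1) (hp.out.odd_of_ne_two hp2).add_one
    have hHyp : Hyp G p := ⟨hp2, hmix, hpG, fun T => by
      rw [T.card_eq_multiplicity, ← Q.card_eq_multiplicity]; omega, hab⟩
    obtain ⟨T, -, hT⟩ := hHyp.moved_sylow hU hy hyn hyc
    have hN := normal_of_pair _ G p rfl hHyp T y hT
    have : Fact r.Prime := ⟨hr⟩
    obtain ⟨g, hg⟩ := exists_prime_orderOf_dvd_card' r hrd
    refine normalizer_elements hmix hpG hpq T.isPGroup' ?_
      (g := g) (by rw [Subgroup.normalizer_eq_top]; trivial) hr (by rw [hg])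
    intro e
    have hc := hHyp.two T
    rw [e, Subgroup.card_bot] at hc
    have := hp.out.two_le
    omega

end CfsgLib.MixedPrimes
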